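import Cfsg.Agent.NoSix.CaseI

/-!
# Products of two elementary abelian subgroups
-/

set_option autoImplicit false

universe u

namespace Cfsg.Lib.NoSix

open Subgroup Cfsg.Lib.Trans
open scoped commutatorElement

variable {G : Type u} [Group G]

theorem commute_of_sq {a b : G} (ha : a * a = 1) (hb : b * b = 1) (h : a * b * (a * b) = 1) :
    Commute a b := by
  change a * b = b * a
  rw [eq_inv_of_mul_eq_one_left h, mul_inv_rev, ← eq_inv_of_mul_eq_one_left ha,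
    ← eq_inv_of_mul_eq_one_left hb]

theorem comm_mem_of_sq {T Y : Subgroup G} (h : ∀ t ∈ T, t * t ∈ Y) {p q : G} (hp : p ∈ T)
    (hq : q ∈ T) : q⁻¹ * (p * q * p⁻¹) ∈ Y := by
  rw [show q⁻¹ * (p * q * p⁻¹) = (q * q)⁻¹ * (q * p * (q * p)) * (p * p)⁻¹ by group]
  exact Y.mul_mem (Y.mul_mem (Y.inv_mem (h q hq)) (h _ (T.mul_mem hq hp))) (Y.inv_mem (h p hp))

/-- `T = A B` with elementary abelian `A`, `B` which contain all involutions. -/
structure AB (T A B : Subgroup G) : Prop where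
  sqA : ∀ a ∈ A, a * a = 1
  sqB : ∀ b ∈ B, b * b = 1
  leA : A ≤ T
  leB : B ≤ T
  prod : ∀ t ∈ T, ∃ a ∈ A, ∃ b ∈ B, t = a * b
  cross : ∀ a ∈ A, ∀ b ∈ B, Commute a b → a ∈ B ∨ b ∈ A
  cmm : ∀ a ∈ A, ∀ b ∈ B, a * b * (a * b) ∈ A ⊓ B
  nA : ¬ A ≤ B
  nB : ¬ B ≤ A

namespace AB
variable {T A B : Subgroup G}

theorem commA (h : AB T A B) {a b : G} (ha : a ∈ A) (hb : b ∈ A) : Commute a b :=
  commute_of_sq (h.sqA a ha) (h.sqA b hb) (h.sqA _ (A.mul_mem ha hb))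

theorem commB (h : AB T A B) {a b : G} (ha : a ∈ B) (hb : b ∈ B) : Commute a b :=
  commute_of_sq (h.sqB a ha) (h.sqB b hb) (h.sqB _ (B.mul_mem ha hb))

theorem symm (h : AB T A B) : AB T B A where
  sqA := h.sqB
  sqB := h.sqA
  leA := h.leB
  leB := h.leA
  prod t ht := by
    obtain ⟨a, ha, b, hb, e⟩ := h.prod _ (T.inv_mem ht)
    exact ⟨_, B.inv_mem hb, _, A.inv_mem ha, by rw [← mul_inv_rev, ← e, inv_inv]⟩
  cross b hb a ha hc := (h.cross a ha b hb hc.symm).symm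
  cmm b hb a ha := by
    have := inv_mem (h.cmm _ (A.inv_mem ha) _ (B.inv_mem hb))
    rw [inf_comm]
    rwa [show (a⁻¹ * b⁻¹ * (a⁻¹ * b⁻¹))⁻¹ = b * a * (b * a) by group] at this
  nA := h.nB
  nB := h.nA

theorem cj (h : AB T A B) (g : G) : AB (cj g T) (cj g A) (cj g B) := by
  let f := (MulAut.conj g).toMonoidHom
  have hf : Function.Injective f := (MulAut.conj g).injective
  refine ⟨?_, ?_, cj_mono g h.leA, cj_mono g h.leB, ?_, ?_, ?_, fun e => h.nA (cj_le_cj.1 e),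
    fun e => h.nB (cj_le_cj.1 e)⟩
  · rintro _ ⟨z, hz, rfl⟩
    rw [← map_mul, h.sqA z hz, map_one]
  · rintro _ ⟨z, hz, rfl⟩
    rw [← map_mul, h.sqB z hz, map_one]
  · rintro _ ⟨t, ht, rfl⟩
    obtain ⟨a, ha, b, hb, rfl⟩ := h.prod t ht
    exact ⟨_, mem_map_of_mem _ ha, _, mem_map_of_mem _ hb, map_mul _ _ _⟩
  · rintro _ ⟨a, ha, rfl⟩ _ ⟨b, hb, rfl⟩ hc
    exact (h.cross a ha b hb (hf (by rw [map_mul, map_mul]; exact hc))).imp (mem_map_of_mem _)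
      (mem_map_of_mem _)
  · rintro _ ⟨a, ha, rfl⟩ _ ⟨b, hb, rfl⟩
    rw [← cj_inf]
    exact ⟨_, h.cmm a ha b hb, by simp only [map_mul]⟩

theorem sq (h : AB T A B) : ∀ t ∈ T, t * t ∈ A ⊓ B := fun t ht => by
  obtain ⟨a, ha, b, hb, rfl⟩ := h.prod t ht
  exact h.cmm a ha b hb

theorem cent (h : AB T A B) {z t : G} (hz : z ∈ A ⊓ B) (ht : t ∈ T) : Commute z t := by
  obtain ⟨a, ha, b, hb, rfl⟩ := h.prod t ht
  exact (h.commA hz.1 ha).mul_right (h.commB hz.2 hb)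

theorem mem_or (h : AB T A B) {t : G} (ht : t ∈ T) (h2 : t * t = 1) : t ∈ A ∨ t ∈ B := by
  obtain ⟨a, ha, b, hb, rfl⟩ := h.prod t ht
  exact (h.cross a ha b hb (commute_of_sq (h.sqA a ha) (h.sqB b hb) h2)).symm.imp
    (A.mul_mem ha) fun e => B.mul_mem e hb

theorem le_or (h : AB T A B) {C : Subgroup G} (hC : C ≤ T) (h2 : ∀ c ∈ C, c * c = 1) :
    C ≤ A ∨ C ≤ B := by
  by_contra hc
  rw [not_or] at hc
  obtain ⟨a, ha, haA⟩ := SetLike.not_le_iff_exists.1 hc.1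
  obtain ⟨b, hb, hbB⟩ := SetLike.not_le_iff_exists.1 hc.2
  have h3 := (h.mem_or (hC ha) (h2 a ha)).resolve_left haA
  have h4 := (h.mem_or (hC hb) (h2 b hb)).resolve_right hbB
  rcases h.mem_or (hC (C.mul_mem ha hb)) (h2 _ (C.mul_mem ha hb)) with e | e
  · exact haA ((A.mul_mem_cancel_right h4).1 e)
  · exact hbB ((B.mul_mem_cancel_left h3).1 e)

theorem conjA (h : AB T A B) {t a : G} (ht : t ∈ T) (ha : a ∈ A) : t * a * t⁻¹ ∈ A :=
  (A.mul_mem_cancel_left (A.inv_mem ha)).1 (comm_mem_of_sq h.sq ht (h.leA ha)).1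

theorem Zc_eq (h : AB T A B) : Zc T = A ⊓ B := by
  refine le_antisymm (fun z hz => ?_) fun z hz => mem_Zc (h.leA hz.1) fun q hq => h.cent hz hq
  obtain ⟨a, ha, b, hb, rfl⟩ := h.prod z hz.1
  obtain ⟨a', ha', haB⟩ := SetLike.not_le_iff_exists.1 h.nA
  obtain ⟨b', hb', hbA⟩ := SetLike.not_le_iff_exists.1 h.nB
  have h1 := (h.commA ha ha').inv_left.mul_left (Zc_comm hz (h.leA ha'))
  have h2 := (Zc_comm hz (h.leB hb')).mul_left (h.commB hb hb').inv_left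
  rw [inv_mul_cancel_left] at h1
  rw [mul_inv_cancel_right] at h2
  exact ⟨A.mul_mem ha ((h.cross a' ha' b hb h1.symm).resolve_left haB),
    B.mul_mem ((h.cross a ha b' hb' h2).resolve_right hbA) hb⟩

theorem inf_ne_bot (h : AB T A B) : A ⊓ B ≠ ⊥ := fun e => by
  obtain ⟨a, ha, haB⟩ := SetLike.not_le_iff_exists.1 h.nA
  obtain ⟨b, hb, hbA⟩ := SetLike.not_le_iff_exists.1 h.nB
  exact (h.cross a ha b hb (commute_of_sq (h.sqA a ha) (h.sqB b hb)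
    (mem_bot.1 (e ▸ h.cmm a ha b hb)))).elim haB hbA

end AB

/-- The elements of `S` outside `T` interchange `A` and `B`. -/
structure SW (S T A B : Subgroup G) : Prop where
  ab : AB T A B
  swA : ∀ u ∈ S, u ∉ T → ∀ a ∈ A, u * a * u⁻¹ ∈ B
  swB : ∀ u ∈ S, u ∉ T → ∀ b ∈ B, u * b * u⁻¹ ∈ A

theorem Side.exists_out [Finite G] {E S S' Q Q' : Subgroup G} (s : Side E S Q Q')
    (s' : Side E S' Q' Q) : ∃ u ∈ E, u ∈ Q' ∧ u ∉ Q := by
  by_contra hc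
  push Not at hc
  obtain ⟨e, he, heQ⟩ := SetLike.not_le_iff_exists.1 s.nle
  obtain ⟨p, h1, h2, h3⟩ := s.ex
  refine s.se p (s.leQ h1) h2 h3 ?_
  rw [show E ⊓ Q' = E ⊓ Q from le_antisymm (fun x hx => ⟨hx.1, hc x hx.1 hx.2⟩) fun x hx =>
    ⟨hx.1, by_contra fun h => heQ ((Q.mul_mem_cancel_left hx.2).1 (hc _ (E.mul_mem hx.1 he)
      (s'.ixE x hx.1 e he h fun h' => heQ (hc e he h'))))⟩]
  exact mem_normalizer_inf h2 (le_normalizer h1)

namespace SW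
variable {S T A B : Subgroup G}

theorem cj (h : SW S T A B) (g : G) : SW (cj g S) (cj g T) (cj g A) (cj g B) := by
  refine ⟨h.ab.cj g, ?_, ?_⟩
  · rintro _ ⟨u, hu, rfl⟩ h1 _ ⟨a, ha, rfl⟩
    exact ⟨_, h.swA u hu (fun e => h1 (mem_map_of_mem _ e)) a ha, by simp only [map_mul, map_inv]⟩
  · rintro _ ⟨u, hu, rfl⟩ h1 _ ⟨a, ha, rfl⟩
    exact ⟨_, h.swB u hu (fun e => h1 (mem_map_of_mem _ e)) a ha, by simp only [map_mul, map_inv]⟩

theorem mem_inf (h : SW S T A B) {u x : G} (hu : u ∈ S) (uT : u ∉ T) (hx : x ∈ T) (h2 : x * x = 1)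
    (hc : Commute u x) : x ∈ A ⊓ B := by
  have e : u * x * u⁻¹ = x := mul_inv_eq_iff_eq_mul.2 hc
  rcases h.ab.mem_or hx h2 with h1 | h1
  · exact ⟨h1, e ▸ h.swA u hu uT x h1⟩
  · exact ⟨e ▸ h.swB u hu uT x h1, h1⟩

theorem decomp (h : SW S T A B) {u a b : G} (hu : u ∈ S) (uT : u ∉ T) (ha : a ∈ A) (hb : b ∈ B)
    (hc : Commute u (a * b)) : (u * a * u⁻¹)⁻¹ * b ∈ A ⊓ B := by
  have h1 := h.swA u hu uT a ha
  refine ⟨?_, B.mul_mem (B.inv_mem h1) hb⟩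
  have h2 := A.mul_mem (A.inv_mem (h.ab.conjA (T.inv_mem (h.ab.leB h1)) ha)) (h.swB u hu uT b hb)
  have e : u * b * u⁻¹ = (u * a * u⁻¹)⁻¹ * (a * b) := by
    rw [← mul_inv_eq_iff_eq_mul.2 hc.eq]; group
  rw [e] at h2
  generalize u * a * u⁻¹ = c at *
  rwa [show (c⁻¹ * a * c⁻¹⁻¹)⁻¹ * (c⁻¹ * (a * b)) = c⁻¹ * b by group] at h2

variable [Finite G]

theorem dh (h : SW S T A B) : DH S T (A ⊓ B) where
  le := inf_le_left.trans h.ab.leA
  cent z hz q hq := h.ab.cent hz hq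
  sqZ z hz := h.ab.sqA z hz.1
  norm s hs := by
    by_cases h1 : s ∈ T
    · exact centralizer_le_normalizer _ fun z hz => (h.ab.cent hz h1).eq
    · exact mem_normalizer_of_cj_le (cj_le_iff.2 fun z hz =>
        ⟨h.swB s hs h1 z hz.2, h.swA s hs h1 z hz.1⟩)
  comm p hp q hq := comm_mem_of_sq h.ab.sq hp hq
  sq := h.ab.sq
  free u hu uT uu f hf hc := by
    obtain ⟨a, ha, b, hb, rfl⟩ := h.ab.prod f hf
    have h1 := h.decomp hu uT ha hb hc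
    have h2 := inv_mem (h.ab.cmm a ha _ (h.swA u hu uT a ha))
    refine ⟨a, h.ab.leA ha, _, mul_mem (inv_mem h1) h2, ?_⟩
    have e1 := eq_inv_of_mul_eq_one_left uu
    have e2 := eq_inv_of_mul_eq_one_left (h.ab.sqA a ha)
    calc a * u * a⁻¹ = u * (u⁻¹ * a⁻¹⁻¹ * u) * a⁻¹ := by group
      _ = u * (u * a⁻¹ * u⁻¹) * a⁻¹ := by rw [← e1, ← e2, ← e2]
      _ = u * (a * a) * (u * a⁻¹ * u⁻¹) * a⁻¹ := by rw [h.ab.sqA a ha, mul_one]
      _ = u * a * (u * (a * a⁻¹) * u⁻¹) * a⁻¹⁻¹ * (u * a⁻¹ * u⁻¹) * a⁻¹ := by group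
      _ = u * a * (u * (a * a⁻¹) * u⁻¹) * a⁻¹ * (u * a⁻¹ * u⁻¹) * a⁻¹ := by rw [← e2, ← e2]
      _ = _ := by group

omit [Finite G] in
theorem graph (h : SW S T A B) {u f : G} (hu : u ∈ S) (uT : u ∉ T) (uu : u * u = 1)
    (hY : ∀ z ∈ A ⊓ B, Commute u z) (hf : f ∈ T) (hc : Commute u f) : f ∈ A ⊓ B := by
  obtain ⟨a, ha, b, hb, rfl⟩ := h.ab.prod f hf
  have h1 := h.decomp hu uT ha hb hc
  have hb' := h.swA u hu uT a ha
  have h2 : Commute u (a * (u * a * u⁻¹)) := by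
    have := hc.mul_right (hY _ h1).inv_right
    rwa [show a * b * ((u * a * u⁻¹)⁻¹ * b)⁻¹ = a * (u * a * u⁻¹) by group] at this
  have e : u * (u * a * u⁻¹) * u⁻¹ = a := by
    calc _ = u * u * a * (u * u)⁻¹ := by group
      _ = a := by rw [uu]; group
  have h3 : Commute a (u * a * u⁻¹) := by
    change _ = _
    rw [← mul_inv_eq_iff_eq_mul.2 h2.eq]
    nth_rw 4 [← e]
    group
  have haB : a ∈ B := (h.ab.cross a ha _ hb' h3).elim id fun h4 => e ▸ h.swA u hu uT _ h4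
  rw [(hY a ⟨ha, haB⟩).eq, mul_inv_cancel_right] at h1
  exact ⟨A.mul_mem ha ((A.mul_mem_cancel_left (A.inv_mem ha)).1 h1.1), B.mul_mem haB hb⟩

variable {E S' T' A' B' : Subgroup G}

theorem inf_le (s : Side E S T T') (s' : Side E S' T' T) (h : SW S T A B) (h' : SW S' T' A' B') :
    ∀ x ∈ A' ⊓ B', x ∈ T → x ∈ A ⊓ B := fun x hx xT => by
  obtain ⟨u, hu, uT', uT⟩ := s.exists_out s'
  exact h.mem_inf (s.le hu) uT xT (h'.ab.sqA x hx.1) (h'.ab.cent hx uT').symm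

theorem not_le (h6 : N6 G) (s : Side E S T T') (s' : Side E S' T' T) (h : SW S T A B)
    (h' : SW S' T' A' B') (hZ : A ⊓ B ≤ E) (hc : Nat.card ↥(A ⊓ B) = Nat.card ↥(A' ⊓ B')) :
    ¬ A' ⊓ B' ≤ T := fun hle => by
  have e : A' ⊓ B' = A ⊓ B := eq_of_le_of_card_ge (fun x hx => inf_le s s' h h' x hx (hle hx)) hc.le
  have hY : A ⊓ B ≤ T := _root_.inf_le_left.trans h.ab.leA
  have hY' : A ⊓ B ≤ T' := e ▸ _root_.inf_le_left.trans h'.ab.leA
  obtain ⟨a, a1, a2, a3⟩ := s.ex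
  obtain ⟨b, b1, b2, b3⟩ := s'.ex
  obtain ⟨m, y1, y3⟩ := exists_pow_three (s.tri s' (s.leQ a1) a2 a3
    (mem_normalizer_of_cj_le (cj_le_iff.2 fun d hd => (Subgroup.mul_mem_cancel_left _ (inv_mem hd)).1
      (le_inf (le_inf hZ hY) hY' (comm_mem_of_sq h.ab.sq a1 hd.1.2)))) (s'.leQ b1) b2 b3
    (mem_normalizer_of_cj_le (cj_le_iff.2 fun d hd => (Subgroup.mul_mem_cancel_left _ (inv_mem hd)).1
      (le_inf (le_inf hZ hY') hY (e ▸ comm_mem_of_sq h'.ab.sq b1 hd.1.2)))))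
  refine h.ab.inf_ne_bot (eq_bot_iff_forall _ |>.2 fun z hz => h6.eq_one_of_mem s.pg
    (s.leQ (hY hz)) y3 y1 (((h.ab.cent hz a1).mul_right (h'.ab.cent (e ▸ hz) b1)).pow_right m))

theorem false_two (h6 : N6 G) (s : Side E S T T') (s' : Side E S' T' T) (h : SW S T A B)
    (h' : SW S' T' A' B') (hZ : A ⊓ B ≤ E) (hZ' : A' ⊓ B' ≤ E)
    (hc : Nat.card ↥(A ⊓ B) = Nat.card ↥(A' ⊓ B')) : False := by
  obtain ⟨u, hu, uT⟩ := SetLike.not_le_iff_exists.1 (not_le h6 s s' h h' hZ hc)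
  obtain ⟨v, hv, vT⟩ := SetLike.not_le_iff_exists.1 (not_le h6 s' s h' h hZ' hc.symm)
  by_cases nc : Commute u v
  swap
  · exact D8.false h6 ⟨s, h.dh, hZ, inf_le s s' h h', hu, uT, nc⟩
      ⟨s', h'.dh, hZ', inf_le s' s h' h, hv, vT, fun e => nc e.symm⟩
  obtain ⟨a, a1, a2, a3⟩ := s.ex
  obtain ⟨b, b1, b2, b3⟩ := s'.ex
  refine s.tri_cent h6 s' (s.leQ a1) a2 a3 (fun x _ h1 h2 => h.ab.cent (h.graph (s.le (hZ' hu)) uT
    (h'.ab.sqA u hu.1) (fun z hz => ?_) h1 (h'.ab.cent hu h2)) a1) (s'.leQ b1) b2 b3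
    fun x _ h1 h2 => h'.ab.cent (h'.graph (s'.le (hZ hv)) vT (h.ab.sqA v hv.1) (fun z hz => ?_) h2
      (h.ab.cent hv h1)) b1
  · by_cases h3 : z ∈ T'
    · exact h'.ab.cent hu h3
    · have := nc.inv_right.mul_right (h'.ab.cent hu (s'.ixE v (hZ hv) z (hZ hz) vT h3))
      rwa [inv_mul_cancel_left] at this
  · by_cases h3 : z ∈ T
    · exact h.ab.cent hv h3
    · have := nc.symm.inv_right.mul_right (h.ab.cent hv (s.ixE u (hZ' hu) z (hZ' hz) uT h3))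
      rwa [inv_mul_cancel_left] at this

theorem false (h6 : N6 G) (hG : pResidual 2 G = ⊤) (S : Sylow 2 G) (nf : NoFour (S : Subgroup G))
    (h : SW S T A B) (hT : T ≤ S) (ix : Ix2 T S) (ne : ¬ (S : Subgroup G) ≤ T)
    (hw : normalizer ((S : Subgroup G) : Set G) ≤ normalizer (T : Set G)) : False := by
  rcases sclosed_or_cfg (isSylowIn_top S) hT (le_normalizer.trans hw) with hc | ⟨E, n, hc⟩
  · exact ne (false_of_sclosed hG S hc ix)
  have s := hc.side S.isPGroup' hT ix nf hw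
  have s' := hc.side' S.isPGroup' hT ix nf hw
  have hZ : Zc T ≤ E := Cfg.center_le h6 hc.nN s s'
  rw [h.ab.Zc_eq] at hZ
  exact false_two h6 s s' h (h.cj n) hZ (by
    rw [← cj_inf, ← cj_eq_of_mem_normalizer hc.nN]; exact cj_mono n hZ) (by rw [← cj_inf, card_cj])

end SW

end Cfsg.Lib.NoSix
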