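import Cfsg.Agent.NoSix.D8

/-!
# The first case is impossible
-/

set_option autoImplicit false

universe u

namespace Cfsg.Lib.NoSix

open Subgroup Cfsg.Lib.Trans
open scoped commutatorElement

variable {G : Type u} [Group G]

/-- The centre of a subgroup. -/
abbrev Zc (P : Subgroup G) : Subgroup G := P ⊓ centralizer (P : Set G)

theorem Zc_comm {P : Subgroup G} {z q : G} (hz : z ∈ Zc P) (hq : q ∈ P) : Commute z q :=
  (hz.2 q hq).symm

theorem mem_Zc {P : Subgroup G} {z : G} (hz : z ∈ P) (h : ∀ q ∈ P, Commute z q) : z ∈ Zc P :=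
  ⟨hz, fun q hq => (h q hq).eq.symm⟩

theorem norm_Zc (P : Subgroup G) : normalizer (P : Set G) ≤ normalizer (Zc P : Set G) :=
  fun _ hg => mem_normalizer_inf hg (normalizer_le_normalizer_centralizer P hg)

theorem cj_Zc (g : G) (P : Subgroup G) : cj g (Zc P) = Zc (cj g P) := by
  rw [cj_inf, cj_centralizer]

namespace CaseI
variable {P T : Subgroup G}

theorem cj (h : CaseI P T) (g : G) : CaseI (cj g P) (cj g T) := by
  let f := (MulAut.conj g).toMonoidHom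
  have hf : Function.Injective f := (MulAut.conj g).injective
  refine ⟨Ix2.cj h.idx g, ?_, ?_, ?_, fun e => h.ne (cj_le_cj.1 e)⟩
  · rintro _ ⟨t, ht, rfl⟩ h1 h2
    obtain ⟨y, hy, y3, y1, e⟩ := h.inv t ht (fun e => h1 (mem_map_of_mem _ e))
      (hf (by rw [map_mul, map_one]; exact h2))
    exact ⟨f y, le_normalizer_map f (mem_map_of_mem f hy), by rw [← map_pow, y3, map_one],
      fun e => y1 (hf (e.trans f.map_one.symm)), by simpa only [map_mul, map_inv] using congrArg f e⟩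
  · obtain ⟨y, hy, y3, y1⟩ := h.ex
    exact ⟨f y, le_normalizer_map f (mem_map_of_mem f hy), by rw [← map_pow, y3, map_one],
      fun e => y1 (hf (e.trans f.map_one.symm))⟩
  · rintro _ ⟨t, ht, rfl⟩ h1
    obtain ⟨v, hv, h2, h3, h4⟩ := h.cent t ht fun e => h1 (mem_map_of_mem _ e)
    refine ⟨f v, mem_map_of_mem _ hv, by rw [← map_mul, h2, map_one], ?_,
      fun e => h4 (hf (by rw [map_mul, map_mul]; exact e))⟩
    rintro _ ⟨p, hp, rfl⟩
    exact (h3 p hp).map f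

variable [Finite G]

theorem exists_out (h6 : N6 G) {P' : Subgroup G} (h : CaseI P T) (h' : CaseI P' T)
    (hP' : IsPGroup 2 P') (l' : P' ≤ T) (n : ¬ P' ≤ P) :
    ∃ v ∈ P, v * v = 1 ∧ (∀ p ∈ P, Commute v p) ∧ v ∉ P' := by
  obtain ⟨p, hp, hpP⟩ := SetLike.not_le_iff_exists.1 n
  obtain ⟨v, hv, h1, h2, h3⟩ := h.cent p (l' hp) hpP
  obtain ⟨y, hy, y3, y1⟩ := h'.ex
  exact ⟨v, hv, h1, h2, fun e => h3 (h6.central_of_ix2 hP' hy y3 y1 e (Ix2.mono h.idx l'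
    fun x _ hx => mem_centralizer_singleton_iff.2 (h2 x hx).eq.symm) p hp).symm⟩

theorem weak (h6 : N6 G) {S : Subgroup G} (hS : IsPGroup 2 S) (nf : NoFour S) (hPS : P ≤ S)
    (hP1 : P ≠ ⊥) (h : CaseI P (S ⊓ normalizer (P : Set G))) :
    normalizer ((S ⊓ normalizer (P : Set G) : Subgroup G) : Set G) ≤ normalizer (P : Set G) := by
  intro g hg
  by_contra hgP
  have h' := h.cj g
  have hPT : P ≤ S ⊓ normalizer (P : Set G) := le_inf hPS le_normalizer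
  have l' := cj_mono g hPT
  rw [cj_eq_of_mem_normalizer hg] at h' l'
  have hP := hS.to_le hPS
  obtain ⟨v, hv, v2, vc, vP⟩ := h'.exists_out h6 h hP hPT fun e => hgP
    (cj_eq_self_iff.1 (eq_of_le_of_card_ge e (card_cj g P).le).symm)
  obtain ⟨y, hy, y3, y1, e⟩ := h.inv v (l' hv) vP v2
  have ix : Ix2 (centralizer {v}) P := Ix2.mono h'.idx hPT
    fun x _ hx => mem_centralizer_singleton_iff.2 (vc x hx).eq.symm
  obtain ⟨a, ha, ac, a1⟩ : ∃ a ∈ P, a ∈ centralizer {v} ∧ a ≠ 1 := by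
    by_contra hc
    push Not at hc
    exact hP1 (le_bot_iff.1 (h6.le_of_ix2 hP hy y3 y1 (ix.mono le_rfl fun x hx e => hc x hx e)
      fun x _ hx => by rw [mem_bot.1 hx]; simp))
  refine nf.false hPS (fun s hs => by_contra fun hsP => ?_) ix (N6.ix2_conj hy ix)
    (fun x hx h1 h2 => h6.eq_one_of_invert hP y3 y1 e hx (mem_centralizer_singleton_iff.1 h1)
      (mem_centralizer_singleton_iff.1 h2)) ha ac a1 (mem_normalizer_conj hy ha) ?_
    fun e => a1 (by simpa [mul_inv_eq_one] using e)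
  · obtain ⟨w, hw, -, -, h3⟩ := h.cent s ⟨hs.1, centralizer_le_normalizer _ hs.2⟩ hsP
    exact h3 (hs.2 w hw).symm
  · have := (conj_mem_cj (g := y)).2 ac
    rwa [cj_centralizer_set, Set.image_singleton] at this

variable {E S S' P' : Subgroup G}

theorem comm_mem (h6 : N6 G) (h : CaseI P S) (hP : IsPGroup 2 P) {p q : G} (hp : p ∈ P)
    (hq : q ∈ P) : q⁻¹ * (p * q * p⁻¹) ∈ Zc P := by
  obtain ⟨y, hy, y3, y1⟩ := h.ex
  rw [show q⁻¹ * (p * q * p⁻¹) = ⁅q⁻¹, p⁆ by rw [commutatorElement_def]; group]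
  exact mem_Zc (commutator_le_self P (commutator_mem_commutator (P.inv_mem hq) hp))
    fun z hz => h6.cls hP hy y3 y1 (P.inv_mem hq) hp hz

theorem norm_inf (h6 : N6 G) (s : Side E S P P') (s' : Side E S' P' P) (h : CaseI P S)
    (h' : CaseI P' S') (hV : Vz P' ≤ P) {p : G} (hp : p ∈ P) (hn : p ∈ normalizer (E : Set G)) :
    p ∈ normalizer ((E ⊓ P ⊓ P' : Subgroup G) : Set G) :=
  mem_normalizer_of_cj_le (cj_le_iff.2 fun d hd => by
    have dE := mem_normalizer_conj hn hd.1.1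
    refine ⟨⟨dE, P.mul_mem (P.mul_mem hp hd.1.2) (P.inv_mem hp)⟩, by_contra fun e => ?_⟩
    obtain ⟨v, hv, v2, vc, nc⟩ := h'.cent _ (s'.le dE) e
    have := (vc d hd.2).symm.mul_left
      (Zc_comm (h.comm_mem h6 (s.pg.to_le s.leQ) hp hd.1.2) (hV ⟨hv, vc, v2⟩))
    rw [mul_inv_cancel_left] at this
    exact nc this)

theorem not_le (h6 : N6 G) (s : Side E S P P') (s' : Side E S' P' P) (h : CaseI P S)
    (h' : CaseI P' S') (hZ : Zc P ≤ E) : ¬ Vz P' ≤ P := fun hV => by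
  have hV' : Vz P ≤ P' := fun v hv => by_contra fun e => by
    obtain ⟨w, hw, w2, wc, nc⟩ := h'.cent v (s'.le (hZ (mem_Zc hv.1 hv.2.1))) e
    exact nc (hv.2.1 w (hV ⟨hw, wc, w2⟩))
  obtain ⟨a, a1, a2, a3⟩ := s.ex
  obtain ⟨b, b1, b2, b3⟩ := s'.ex
  obtain ⟨u, hu, uP⟩ := SetLike.not_le_iff_exists.1 s.nle
  obtain ⟨v, hv, -, vc, nc⟩ := h.cent u (s.le hu) uP
  exact s.no_three h6 hu (hZ (mem_Zc hv vc)) vc nc (mul_mem a2 b2) (s.tri s' (s.leQ a1) a2 a3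
    (norm_inf h6 s s' h h' hV a1 a2) (s'.leQ b1) b2 b3 (norm_inf h6 s' s h' h hV' b1 b2))

theorem d8 (h6 : N6 G) (s : Side E S P P') (s' : Side E S' P' P) (h : CaseI P S)
    (hZ : Zc P ≤ E) (hZ' : Zc P' ≤ E) {u v : G} (hu : u ∈ Vz P') (uP : u ∉ P) (hv : v ∈ Vz P)
    (nc : ¬ Commute u v) : DH S P (Zc P) ∧ ∀ x ∈ Zc P, x ∈ P' → x ∈ Zc P' := by
  have hP := s.pg.to_le s.leQ
  have uZ := mem_Zc hu.1 hu.2.1
  have vZ := mem_Zc hv.1 hv.2.1
  have nS := (s.ix.le_normalizer s.leQ).trans (norm_Zc P)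
  have nS' := (s'.ix.le_normalizer s'.leQ).trans (norm_Zc P')
  obtain ⟨y, hy, y3, y1, e⟩ := h.inv u (s.le (hZ' uZ)) uP hu.2.2
  have ix : Ix2 (centralizer {u}) (Zc P) := s'.ixE.mono hZ
    fun x _ hx => mem_centralizer_singleton_iff.2 (hu.2.1 x hx).eq.symm
  have hZ2 : IsPGroup 2 (Zc P) := hP.to_le inf_le_left
  have sqZ := fun z => h6.sq_of_invert hZ2 (norm_Zc P hy) y3 y1 e ix (x := z)
  have sq : ∀ p ∈ P, p * p ∈ Zc P := fun p hp => mem_Zc (P.mul_mem hp hp) fun q hq => by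
    have c := h.comm_mem h6 hP hp hq
    refine mul_inv_eq_iff_eq_mul.1 ?_
    calc _ = p * q * (q⁻¹ * (p * q * p⁻¹)) * p⁻¹ := by group
      _ = p * q * p⁻¹ * (q⁻¹ * (p * q * p⁻¹)) := by
          rw [mul_assoc, (Zc_comm c (P.inv_mem hp)).eq, ← mul_assoc]
      _ = q * ((q⁻¹ * (p * q * p⁻¹)) * (q⁻¹ * (p * q * p⁻¹))) := by group
      _ = q := by rw [sqZ _ c, mul_one]
  refine ⟨⟨inf_le_left, fun z hz q hq => Zc_comm hz hq, sqZ, nS,
    fun p hp q hq => h.comm_mem h6 hP hp hq, sq, fun t ht tP tt f hf tf => ?_⟩, fun x hx xP => ?_⟩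
  · obtain ⟨y, hy, y3, y1, e⟩ := h.inv t ht tP tt
    have hp := mem_normalizer_conj hy hf
    refine ⟨_, hp, _, sq _ (P.inv_mem (P.mul_mem hp hf)), ?_⟩
    have n := eq_inv_of_mul_eq_one_right (h6.norm hP hy y3 y1 hf)
    have yy : y * y = y⁻¹ := by rw [eq_inv_iff_mul_eq_one, ← pow_three', y3]
    have e1 : y * (y * f * y⁻¹) * y⁻¹ = t⁻¹ * (y * f * y⁻¹) * t := by
      calc _ = y * y * f * (y * y)⁻¹ := by group
        _ = (t * y * t⁻¹) * f * (t * y * t⁻¹)⁻¹ := by rw [yy, e]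
        _ = t * y * (t⁻¹ * f * t) * y⁻¹ * t⁻¹ := by group
        _ = t * (y * f * y⁻¹) * t⁻¹ := by rw [mul_assoc t⁻¹, ← tf.eq]; group
        _ = _ := by rw [← eq_inv_of_mul_eq_one_left tt]
    generalize y * f * y⁻¹ = p at *
    calc _ = t * (t⁻¹ * p * t) * p⁻¹ := by group
      _ = _ := by rw [← e1, n]; group
  · by_cases x1 : x = 1
    · rw [x1]; exact one_mem _
    have w1 : v⁻¹ * (u * v * u⁻¹) ∈ Zc P :=
      mul_mem (inv_mem vZ) (mem_normalizer_conj (nS (s.le (hZ' uZ))) vZ)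
    have w2 : v⁻¹ * (u * v * u⁻¹) ∈ Zc P' := by
      rw [show v⁻¹ * (u * v * u⁻¹) = v⁻¹ * u * v * u⁻¹ by group]
      exact mul_mem (mem_normalizer_conj' (nS' (s'.le (hZ vZ))) uZ) (inv_mem uZ)
    rw [eq_inv_of_mul_eq_one_left (h6.small_of_invert hZ2 (norm_Zc P hy) y3 y1 e ix hx w1
      (hu.2.1 x xP).symm (Zc_comm w2 hu.1) x1
      fun e => nc (mul_inv_eq_iff_eq_mul.1 (inv_mul_eq_one.1 e).symm))]
    exact inv_mem w2

theorem false_two (h6 : N6 G) (s : Side E S P P') (s' : Side E S' P' P) (h : CaseI P S)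
    (h' : CaseI P' S') (hZ : Zc P ≤ E) (hZ' : Zc P' ≤ E) : False := by
  obtain ⟨u, hu, uP⟩ := SetLike.not_le_iff_exists.1 (not_le h6 s s' h h' hZ)
  have uZ := mem_Zc hu.1 hu.2.1
  obtain ⟨v, hv, v2, vc, nc⟩ := h.cent u (s.le (hZ' uZ)) uP
  have vP : v ∉ P' := fun e => nc (hu.2.1 v e)
  obtain ⟨d, i⟩ := d8 h6 s s' h hZ hZ' hu uP ⟨hv, vc, v2⟩ nc
  obtain ⟨d', i'⟩ := d8 h6 s' s h' hZ' hZ ⟨hv, vc, v2⟩ vP hu fun e => nc e.symm
  exact D8.false h6 ⟨s, d, hZ, i', uZ, uP, nc⟩ ⟨s', d', hZ', i, mem_Zc hv vc, vP, fun e => nc e.symm⟩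

theorem false (h6 : N6 G) (hG : pResidual 2 G = ⊤) (S : Sylow 2 G) (nf : NoFour (S : Subgroup G))
    (hPS : P ≤ S) (hP1 : P ≠ ⊥) (h : CaseI P (S ⊓ normalizer (P : Set G))) : False := by
  have hw := h.weak h6 S.isPGroup' nf hPS hP1
  have hT : (S : Subgroup G) ⊓ normalizer (P : Set G) = S := by
    by_contra e
    exact (lt_inf_normalizer S.isPGroup' (lt_of_le_of_ne inf_le_left e)).not_ge
      (inf_le_inf_left _ hw)
  rw [hT] at h hw
  rcases sclosed_or_cfg (isSylowIn_top S) hPS (le_normalizer.trans hw) with hc | ⟨E, n, hc⟩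
  · exact h.ne (false_of_sclosed hG S hc h.idx)
  have s := hc.side S.isPGroup' hPS h.idx nf hw
  have s' := hc.side' S.isPGroup' hPS h.idx nf hw
  have hZ := Cfg.center_le h6 hc.nN s s'
  exact false_two h6 s s' h (h.cj n) hZ (by
    rw [← cj_Zc, ← cj_eq_of_mem_normalizer hc.nN]; exact cj_mono n hZ)

end CaseI

end Cfsg.Lib.NoSix
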