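import Cfsg.Agent.NoSix.AB

/-!
# The second case
-/

set_option autoImplicit false

universe u

namespace Cfsg.Lib.NoSix

open Subgroup Cfsg.Lib.Trans
open scoped commutatorElement

variable {G : Type u} [Group G]

/-- The fixed points of `T` on `P`. -/
abbrev Yc (P T : Subgroup G) : Subgroup G := P ⊓ centralizer (T : Set G)

/-- The second case with its standing hypotheses. -/
structure C2 (P T : Subgroup G) : Prop extends CaseII P T where
  le : P ≤ T
  norm : T ≤ normalizer (P : Set G)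
  ne : P ≠ ⊥

namespace C2
variable {P T B : Subgroup G}

theorem mem_Y (h : C2 P T) {t v : G} (ht : t ∈ T) (tP : t ∉ P) (hv : v ∈ P) (hc : Commute t v) :
    v ∈ Yc P T := ⟨hv, fun t' ht' => h.fix t ht tP v hv hc t' ht'⟩

theorem cm_mem (h : C2 P T) {t w : G} (ht : t ∈ T) (hw : w ∈ P) : t * w * t⁻¹ * w ∈ Yc P T := by
  have h1 := mem_normalizer_conj (h.norm ht) hw
  by_cases tP : t ∈ P
  · rw [(h.comm t tP w hw).eq, mul_inv_cancel_right, h.sq w hw]; exact one_mem _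
  refine h.mem_Y ht tP (P.mul_mem h1 hw) (mul_inv_eq_iff_eq_mul.1 ?_)
  calc _ = t * t * w * (t * t)⁻¹ * (t * w * t⁻¹) := by group
    _ = w * (t * w * t⁻¹) := by rw [(h.comm _ (h.sqT t ht) w hw).eq, mul_inv_cancel_right]
    _ = _ := h.comm _ hw _ h1

theorem sqY (h : C2 P T) : ∀ t ∈ T, t * t ∈ Yc P T := fun t ht => by
  by_cases tP : t ∈ P
  · rw [h.sq t tP]; exact one_mem _
  · exact h.mem_Y ht tP (h.sqT t ht) ((Commute.refl t).mul_right (Commute.refl t))

theorem not_cent (h : C2 P T) {t : G} (ht : t ∈ T) (tP : t ∉ P) : ¬ ∀ v ∈ P, Commute t v :=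
  fun hc => h.ne (eq_bot_iff_forall _ |>.2 fun v hv => by
    obtain ⟨w, hw, e⟩ := h.free t ht tP v hv (hc v hv)
    rw [e, (hc w hw).eq, mul_inv_cancel_right, h.sq w hw])

theorem exists_out (h : C2 P T) : ∃ t ∈ T, t ∉ P := SetLike.not_le_iff_exists.1 fun e => by
  have := h.idx
  rw [relIndex_eq_one.2 e] at this
  omega

theorem ab (h : C2 P T) (hB : B ≤ T) (sq : ∀ b ∈ B, b * b = 1) (hY : Yc P T ≤ B) (nB : ¬ B ≤ P)
    (prod : ∀ t ∈ T, ∃ a ∈ P, ∃ b ∈ B, t = a * b) : AB T P B where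
  sqA := h.sq
  sqB := sq
  leA := h.le
  leB := hB
  prod := prod
  cross a ha b hb hc := by
    by_cases bP : b ∈ P
    exacts [.inr bP, .inl (hY (h.mem_Y (hB hb) bP ha hc.symm))]
  cmm a ha b hb :=
    have := h.sqY _ (T.mul_mem (h.le ha) (hB hb))
    ⟨this.1, hY this⟩
  nA := fun e => by
    obtain ⟨b, hb, bP⟩ := SetLike.not_le_iff_exists.1 nB
    exact h.not_cent (hB hb) bP fun v hv =>
      commute_of_sq (sq b hb) (sq v (e hv)) (sq _ (B.mul_mem hb (e hv)))
  nB := nB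

variable [Finite G]

omit [Finite G] in
theorem card_P (h : C2 P T) : Nat.card P = Nat.card (Yc P T) * Nat.card (Yc P T) := by
  obtain ⟨t, ht, tP⟩ := h.exists_out
  let φ : P →* G := MonoidHom.mk' (fun w => t * w * t⁻¹ * w) fun a b => by
    have := (h.comm _ (mem_normalizer_conj (h.norm ht) b.2) _ a.2).eq
    calc t * (a * b : G) * t⁻¹ * (a * b) = t * a * t⁻¹ * (t * b * t⁻¹ * a) * b := by group
      _ = _ := by rw [this]; group
  have hk : φ.ker = (Yc P T).subgroupOf P := by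
    ext w
    refine ⟨fun hw => h.mem_Y ht tP w.2 (mul_inv_eq_iff_eq_mul.1 ?_), fun hw => ?_⟩
    · exact (eq_inv_of_mul_eq_one_left hw).trans (eq_inv_of_mul_eq_one_left (h.sq w w.2)).symm
    · change t * w * t⁻¹ * w = 1
      rw [show t * w = w * t from hw.2 t ht, mul_inv_cancel_right, h.sq w w.2]
  have hr : φ.range = Yc P T := le_antisymm (by rintro _ ⟨w, rfl⟩; exact h.cm_mem ht w.2)
    fun v hv => by
      obtain ⟨w, hw, e⟩ := h.free t ht tP v hv.1 (hv.2 t ht)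
      exact ⟨⟨w, hw⟩, e.symm⟩
  rw [← φ.ker.card_mul_index, index_ker, hk, hr,
    Nat.card_congr (subgroupOfEquivOfLe _root_.inf_le_left).toEquiv]

theorem idx_le (h : C2 P T) : P.relIndex T ≤ Nat.card (Yc P T) := by
  obtain ⟨t, ht, tP⟩ := h.exists_out
  obtain ⟨v, hv, nc⟩ : ∃ v ∈ P, ¬ Commute t v := by
    by_contra hc
    push Not at hc
    exact h.not_cent ht tP hc
  let ψ : T →* G := MonoidHom.mk' (fun s => s * v * (s : G)⁻¹ * v) fun a b => by
    have h1 := h.cm_mem b.2 hv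
    have e := h.sq v hv
    calc (a * b : G) * v * (a * b : G)⁻¹ * v = a * (b * v * (b : G)⁻¹ * v) * (v⁻¹ * (a : G)⁻¹ * v) := by
          group
      _ = a * (v⁻¹ * (a : G)⁻¹ * v) * (b * v * (b : G)⁻¹ * v) := by
          rw [mul_assoc, ← h1.2 _ (T.mul_mem (T.mul_mem (T.inv_mem (h.le hv)) (T.inv_mem a.2))
            (h.le hv)), ← mul_assoc]
      _ = _ := by rw [← eq_inv_of_mul_eq_one_left e]; group
  have hk : ψ.ker = P.subgroupOf T := by
    ext s
    refine ⟨fun hs => by_contra fun sP => nc (h.fix s s.2 sP v hv (mul_inv_eq_iff_eq_mul.1 ?_) t ht),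
      fun hs => ?_⟩
    · exact (eq_inv_of_mul_eq_one_left hs).trans (eq_inv_of_mul_eq_one_left (h.sq v hv)).symm
    · change s * v * (s : G)⁻¹ * v = 1
      rw [(h.comm s hs v hv).eq, mul_inv_cancel_right, h.sq v hv]
  rw [relIndex, ← hk, index_ker]
  exact Subgroup.card_le_of_le (by rintro _ ⟨s, rfl⟩; exact h.cm_mem s.2 hv)

theorem prod_of (h : C2 P T) (hB : B ≤ T) (hc : Nat.card (Yc P T) ≤ P.relIndex B) :
    ∀ t ∈ T, ∃ a ∈ P, ∃ b ∈ B, t = a * b := fun t ht => by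
  have h1 := relIndex_mul_relIndex P (P ⊔ B) T le_sup_left (sup_le h.le hB)
  have h2 : P.relIndex B ≤ P.relIndex (P ⊔ B) :=
    relIndex_le_of_le_right le_sup_right (index_ne_zero_of_finite)
  have h3 := h.idx_le
  have h4 := h.idx
  have h5 : (P ⊔ B).relIndex T = 1 := by
    by_contra e
    have : (P ⊔ B).relIndex T ≠ 0 := index_ne_zero_of_finite
    have : P.relIndex (P ⊔ B) * 2 ≤ P.relIndex T := h1 ▸ Nat.mul_le_mul_left _ (by omega)
    omega
  have : t ∈ ((P ⊔ B : Subgroup G) : Set G) := relIndex_eq_one.1 h5 ht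
  rw [coe_mul_of_right_le_normalizer_left P B (hB.trans h.norm)] at this
  obtain ⟨a, ha, b, hb, rfl⟩ := this
  exact ⟨a, ha, b, hb, rfl⟩

theorem ab_of_card (h : C2 P T) (hB : B ≤ T) (sq : ∀ b ∈ B, b * b = 1)
    (hc : Nat.card B = Nat.card P) (ne : B ≠ P) : AB T P B ∧ P ⊓ B = Yc P T := by
  have nB : ¬ B ≤ P := fun e => ne (eq_of_le_of_card_ge e hc.ge)
  obtain ⟨b, hb, bP⟩ := SetLike.not_le_iff_exists.1 nB
  have h1 : P ⊓ B ≤ Yc P T := fun v hv => h.mem_Y (hB hb) bP hv.1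
    (commute_of_sq (sq b hb) (sq v hv.2) (sq _ (B.mul_mem hb hv.2)))
  have h2 := card_mul_relIndex (_root_.inf_le_right : P ⊓ B ≤ B)
  rw [inf_relIndex_right, hc, h.card_P] at h2
  have h3 := Subgroup.card_le_of_le h1
  have h4 : P.relIndex B ≤ Nat.card (Yc P T) :=
    (relIndex_le_of_le_right hB index_ne_zero_of_finite).trans h.idx_le
  have h0 : 0 < Nat.card (Yc P T) := Nat.card_pos
  have h5 : P ⊓ B = Yc P T := eq_of_le_of_card_ge h1 (by nlinarith)
  exact ⟨h.ab hB sq (h5 ▸ _root_.inf_le_right) nB (h.prod_of hB (by nlinarith)), h5⟩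

omit [Finite G] in
theorem sq_cj (h : C2 P T) (g : G) : ∀ b ∈ cj g P, b * b = 1 := by
  rintro _ ⟨z, hz, rfl⟩
  rw [← map_mul, h.sq z hz, map_one]

theorem false_of_lt (h6 : N6 G) (hG : pResidual 2 G = ⊤) (S : Sylow 2 G)
    (nf : NoFour (S : Subgroup G)) (h : C2 P (S ⊓ normalizer (P : Set G)))
    (hlt : (S : Subgroup G) ⊓ normalizer (P : Set G) ≠ S) : False := by
  have hTS : (S : Subgroup G) ⊓ normalizer (P : Set G) ≤ S := _root_.inf_le_left
  have memT : ∀ x ∈ (S : Subgroup G), cj x P = P → x ∈ (S : Subgroup G) ⊓ normalizer (P : Set G) :=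
    fun x hx e => ⟨hx, cj_eq_self_iff.1 e⟩
  generalize (S : Subgroup G) ⊓ normalizer (P : Set G) = T at *
  obtain ⟨g, hg, gT⟩ := SetLike.exists_of_lt (lt_inf_normalizer S.isPGroup' (lt_of_le_of_ne hTS hlt))
  have cjT : ∀ x ∈ normalizer (T : Set G), cj x P ≤ T := fun x hx =>
    (cj_mono x h.le).trans (cj_eq_of_mem_normalizer hx).le
  obtain ⟨ab, hY⟩ := h.ab_of_card (cjT g hg.2) (h.sq_cj g) (card_cj g P) fun e => gT (memT g hg.1 e)
  have two : ∀ x, cj x P ≤ T → cj x P = P ∨ cj x P = cj g P := fun x hx =>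
    (ab.le_or hx (h.sq_cj x)).imp (fun e => eq_of_le_of_card_ge e (card_cj x P).ge)
      fun e => eq_of_le_of_card_ge e (by rw [card_cj, card_cj])
  have sw : ∀ x ∈ (S : Subgroup G) ⊓ normalizer (T : Set G), x ∉ T →
      cj x P = cj g P ∧ cj x (cj g P) = P := fun x hx xT => by
    have e := (two x (cjT x hx.2)).resolve_left fun e => xT (memT x hx.1 e)
    refine ⟨e, ?_⟩
    rw [cj_cj]
    refine (two _ (cjT _ (mul_mem hx.2 hg.2))).resolve_right fun e' => ?_
    rw [← cj_cj, ← e, cj_inj] at e'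
    exact gT (memT g hg.1 (e.symm.trans e'))
  have ix : Ix2 T (S ⊓ normalizer (T : Set G)) := fun a ha b hb aT bT =>
    memT _ (mul_mem ha.1 hb.1) (by rw [cj_mul, (sw b hb bT).1, (sw a ha aT).2])
  have hS1 : T ≤ (S : Subgroup G) ⊓ normalizer (T : Set G) := le_inf hTS le_normalizer
  have sw' : SW (S ⊓ normalizer (T : Set G)) T P (cj g P) := ⟨ab,
    fun u hu uT a ha => (sw u hu uT).1 ▸ conj_mem_cj.2 ha,
    fun u hu uT a ha => (sw u hu uT).2 ▸ conj_mem_cj.2 ha⟩
  have big : ∀ x, cj x P ≤ (S : Subgroup G) ⊓ normalizer (T : Set G) → cj x P ≤ T := fun x hx => by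
    by_contra e
    obtain ⟨u, hu, uT⟩ := SetLike.not_le_iff_exists.1 e
    have h1 : T ⊓ cj x P ≤ Yc P T := fun z hz => hY ▸ sw'.mem_inf (hx hu) uT hz.1
      (h.sq_cj x z hz.2) (commute_of_sq (h.sq_cj x u hu) (h.sq_cj x z hz.2)
        (h.sq_cj x _ (mul_mem hu hz.2)))
    have h2 := card_mul_relIndex (_root_.inf_le_right : T ⊓ cj x P ≤ cj x P)
    have h3 : T.relIndex (cj x P) = 2 := relIndex_eq_two_iff.2 ⟨u, hu, fun b hb => by
      by_cases bT : b ∈ T
      · exact .inr ⟨bT, fun e => uT ((T.mul_mem_cancel_left bT).1 e)⟩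
      · exact .inl ⟨ix b (hx hb) u (hx hu) bT uT, bT⟩⟩
    rw [inf_relIndex_right, card_cj, h.card_P, h3] at h2
    have h4 := Subgroup.card_le_of_le h1
    have h5 := h.idx_le
    have h6 := h.idx
    nlinarith
  have hN : normalizer ((S ⊓ normalizer (T : Set G) : Subgroup G) : Set G) ≤
      normalizer (T : Set G) := fun x hx => by
    have h1 : ∀ A ≤ T, cj x A ≤ (S : Subgroup G) ⊓ normalizer (T : Set G) := fun A hA =>
      (cj_mono x (hA.trans hS1)).trans (cj_eq_of_mem_normalizer hx).le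
    have h2 := big x (h1 P h.le)
    have h3 := big (x * g) (by rw [cj_mul]; exact h1 _ ab.leB)
    refine mem_normalizer_of_cj_le (cj_le_iff.2 fun t ht => ?_)
    obtain ⟨a, ha, b, hb, rfl⟩ := ab.prod t ht
    rw [show x * (a * b) * x⁻¹ = x * a * x⁻¹ * (x * b * x⁻¹) by group]
    exact T.mul_mem (h2 (conj_mem_cj.2 ha)) (h3 (by rw [cj_mul]; exact conj_mem_cj.2 hb))
  have hS : (S : Subgroup G) ⊓ normalizer (T : Set G) = S := by
    by_contra e
    exact (lt_inf_normalizer S.isPGroup' (lt_of_le_of_ne _root_.inf_le_left e)).not_ge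
      (inf_le_inf_left _ hN)
  rw [hS] at ix sw' hN
  exact sw'.false h6 hG S nf hTS ix (fun e => hlt (le_antisymm hTS e)) hN

theorem exists_ab (h6 : N6 G) {S E : Subgroup G} {n : G} (hS : IsPGroup 2 S) (h : C2 P S)
    (c : Cfg S P E n) : ∃ B, AB S P B := by
  by_cases hPE : P ≤ E
  · exact ⟨_, (h.ab_of_card (((cj_mono n hPE).trans (cj_eq_of_mem_normalizer c.nN).le).trans c.le)
      (h.sq_cj n) (card_cj n P) fun e => c.nn (by
        rw [inf_of_le_right hPE]; exact cj_eq_self_iff.1 e)).1⟩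
  have hYE : Yc P S ≤ E := fun z hz => c.rad.inf_centralizer_le le_top
    ⟨h.le hz.1, fun e he => hz.2 e (c.le he)⟩
  obtain ⟨m, hm, hmY⟩ : ∃ m ∈ normalizer (E : Set G), m ∉ normalizer (Yc P S : Set G) := by
    by_contra hc
    push Not at hc
    let M : ℕ → Subgroup G := fun i => match i with
      | 0 => E
      | 1 => Yc P S
      | _ + 2 => ⊥
    have hM : ∀ i, ⊤ ⊓ normalizer (E : Set G) ≤ normalizer (M i : Set G) := fun i => match i with
      | 0 => _root_.inf_le_right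
      | 1 => fun x hx => hc x hx.2
      | _ + 2 => le_top.trans (normalizer_eq_top (⊥ : Subgroup G)).ge
    refine hPE (h.le.trans (le_trans (le_inf le_rfl fun s hs => ?_) (c.rad (chainStab _ M hM)
      (fun x hx => hx.1) (le_normalizer_chainStab _ M hM) fun x hx hc =>
        mem_centralizer_of_coprime_of_desc_chain M (fun i => match i with
          | 0 => hS.to_le c.le
          | 1 => hS.to_le (_root_.inf_le_left.trans h.le)
          | _ + 2 => IsPGroup.of_bot) (n := 2) rfl hc hx.2)))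
    refine ⟨⟨mem_top s, mem_normalizer_of_cj_le (cj_le_iff.2 fun e he =>
      (E.mul_mem_cancel_left (E.inv_mem he)).1 (hYE (comm_mem_of_sq h.sqY hs (c.le he))))⟩,
      fun i => match i with
        | 0 => fun u hu => comm_mem_of_sq h.sqY hs (c.le hu)
        | 1 => fun u hu => ?_
        | _ + 2 => fun u hu => ?_⟩
    · rw [hu.2 s hs, mul_inv_cancel_right, inv_mul_cancel]; exact one_mem _
    · rw [mem_bot.1 hu]; simp
  obtain ⟨e, he, eP⟩ := SetLike.not_le_iff_exists.1 c.not_le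
  have cE : ∀ k ∈ normalizer (E : Set G), ∀ x ∈ cj k (Yc P S), x ∈ E ∧ ∀ e ∈ E, Commute e x :=
    fun k hk x hx => ⟨(cj_eq_of_mem_normalizer hk).le (cj_mono k hYE hx), fun e he => by
      have := (mem_cj.1 hx).2 _ (c.le (mem_normalizer_conj' hk he))
      change e * x = x * e
      calc _ = k * (k⁻¹ * e * k * (k⁻¹ * x * k)) * k⁻¹ := by group
        _ = _ := by rw [this]; group⟩
  have inY : ∀ k ∈ normalizer (E : Set G), ∀ x ∈ cj k (Yc P S), x ∈ P → x ∈ Yc P S :=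
    fun k hk x hx xP => h.mem_Y (c.le he) eP xP ((cE k hk x hx).2 e he)
  have out : ∀ k ∈ normalizer (E : Set G), k ∉ normalizer (Yc P S : Set G) →
      ∃ u ∈ cj k (Yc P S), u ∉ P := fun k hk hkY => SetLike.not_le_iff_exists.1 fun e =>
    hkY (mem_normalizer_of_cj_le fun x hx => inY k hk x hx (e hx))
  have mv : ∀ u ∈ S, u ∉ P → u * u = 1 → ∀ v ∈ Yc P S, ∃ w ∈ P, w * u * w⁻¹ = u * v :=
    fun u hu uP uu v hv => by
      obtain ⟨w, hw, e⟩ := h.free u hu uP v hv.1 (hv.2 u hu)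
      refine ⟨w, hw, ?_⟩
      rw [e, ← mul_assoc, ← mul_assoc, ← mul_assoc, uu, one_mul,
        ← eq_inv_of_mul_eq_one_left uu, ← eq_inv_of_mul_eq_one_left (h.sq w hw)]
  have sqY : ∀ k, ∀ x ∈ cj k (Yc P S), x * x = 1 := fun k x hx =>
    h.sq_cj k x (cj_mono k _root_.inf_le_left hx)
  obtain ⟨u, hu, uP⟩ := out m hm hmY
  obtain ⟨v', hv', vP⟩ := out m⁻¹ (inv_mem hm) fun e => hmY (inv_mem_iff.1 e)
  have hv : m * v' * m⁻¹ ∈ Yc P S := mem_cj_inv.1 hv'
  obtain ⟨a, ha, ea⟩ := mv u (c.le (cE m hm u hu).1) uP (sqY m u hu) _ hv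
  obtain ⟨b', hb', eb⟩ := mv v' (c.le (cE _ (inv_mem hm) v' hv').1) vP (sqY _ v' hv') _ (mem_cj.1 hu)
  have eb' : m * b' * m⁻¹ * (m * v' * m⁻¹) * (m * b' * m⁻¹)⁻¹ = m * v' * m⁻¹ * u := by
    calc _ = m * (b' * v' * b'⁻¹) * m⁻¹ := by group
      _ = _ := by rw [eb]; group
  have cb : ∀ x ∈ cj m (Yc P S), Commute (m * b' * m⁻¹) x := fun x hx => by
    have := (mem_cj.1 hx).2 _ (h.le hb')
    change _ * x = x * _
    calc _ = m * (b' * (m⁻¹ * x * m)) * m⁻¹ := by group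
      _ = _ := by rw [this]; group
  have v1 : m * v' * m⁻¹ ≠ 1 := fun e => vP (by
    rw [show v' = 1 by simpa [mul_inv_eq_one] using e]; exact P.one_mem)
  generalize m * v' * m⁻¹ = v at *
  generalize m * b' * m⁻¹ = b at *
  have uv : Commute v u := (cE m hm u hu).2 v (hYE hv)
  have av : a * v * a⁻¹ = v := mul_inv_eq_iff_eq_mul.2 (hv.2 a (h.le ha))
  have bu : b * u * b⁻¹ = u := mul_inv_eq_iff_eq_mul.2 (cb u hu)
  have e : ∀ x, a * b * x * (a * b)⁻¹ = a * (b * x * b⁻¹) * a⁻¹ := fun x => by group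
  have mul : ∀ p x y : G, p * (x * y) * p⁻¹ = p * x * p⁻¹ * (p * y * p⁻¹) := fun p x y => by group
  obtain ⟨k, y1, y3⟩ := exists_pow_three (tri_pred (w := a * b) (· = v) (· = u) (· = u * v)
    (by
      rintro _ rfl
      rw [e, eb', mul, av, ea, ← mul_assoc, uv.eq, mul_assoc, h.sq _ hv.1, mul_one])
    (by rintro _ rfl; rw [e, bu, ea])
    (by
      rintro _ rfl
      rw [e, mul b, bu, eb', uv.eq, ← mul_assoc u, sqY m u hu, one_mul, av])
    rfl (fun e => uP (e ▸ hv.1)) fun e => uP ((P.mul_mem_cancel_right hv.1).1 (e ▸ hv.1)))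
  have hbot : P ⊓ cj m (Yc P S) = ⊥ := eq_bot_iff_forall _ |>.2 fun x hx =>
    h6.eq_one_of_mem hS (h.le hx.1) y3 y1
      (((h.comm x hx.1 a ha).mul_right (cb x hx.2).symm).pow_right k)
  have hY' : cj m (Yc P S) ≤ S := fun x hx => c.le (cE m hm x hx).1
  have hB : Yc P S ⊔ cj m (Yc P S) ≤ S := sup_le (_root_.inf_le_left.trans h.le) hY'
  refine ⟨_, h.ab hB (fun x hx => ?_) le_sup_left (fun e => uP (e (mem_sup_right hu)))
    (h.prod_of hB (le_trans ?_ (relIndex_le_of_le_right le_sup_right index_ne_zero_of_finite)))⟩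
  · have : x ∈ ((Yc P S ⊔ cj m (Yc P S) : Subgroup G) : Set G) := hx
    rw [coe_mul_of_right_le_normalizer_left _ _ (hY'.trans fun s hs =>
      centralizer_le_normalizer _ fun z hz => (hz.2 s hs).symm)] at this
    obtain ⟨z, hz, w, hw, rfl⟩ := this
    change z * w * (z * w) = 1
    rw [mul_assoc, ← mul_assoc w, hz.2 w (hY' hw), mul_assoc, sqY m w hw, mul_one, h.sq z hz.1]
  · rw [← inf_relIndex_right, hbot, relIndex_bot_left, card_cj]

end C2

end Cfsg.Lib.NoSix
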