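import Cfsg.Agent.NoSix.Tools

/-!
# The dihedral configuration
-/

set_option autoImplicit false

universe u

namespace Cfsg.Lib.NoSix

open Subgroup Cfsg.Lib.Trans
open scoped commutatorElement

variable {G : Type u} [Group G]

/-- `Q / Z` is elementary abelian and a free module for the involutions outside `Q`. -/
structure DH (S Q Z : Subgroup G) : Prop where
  le : Z ≤ Q
  cent : ∀ z ∈ Z, ∀ q ∈ Q, Commute z q
  sqZ : ∀ z ∈ Z, z * z = 1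
  norm : S ≤ normalizer (Z : Set G)
  comm : ∀ p ∈ Q, ∀ q ∈ Q, q⁻¹ * (p * q * p⁻¹) ∈ Z
  sq : ∀ p ∈ Q, p * p ∈ Z
  free : ∀ u ∈ S, u ∉ Q → u * u = 1 → ∀ f ∈ Q, Commute u f →
    ∃ p ∈ Q, ∃ z ∈ Z, p * u * p⁻¹ = u * f * z

theorem DH.cj {S Q Z : Subgroup G} (h : DH S Q Z) (g : G) : DH (cj g S) (cj g Q) (cj g Z) := by
  let f := (MulAut.conj g).toMonoidHom
  have hf : Function.Injective f := (MulAut.conj g).injective
  refine ⟨cj_mono g h.le, ?_, ?_, by rw [← cj_normalizer]; exact cj_mono g h.norm, ?_, ?_, ?_⟩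
  · rintro _ ⟨z, hz, rfl⟩ _ ⟨q, hq, rfl⟩
    exact (h.cent z hz q hq).map f
  · rintro _ ⟨z, hz, rfl⟩
    rw [← map_mul, h.sqZ z hz, map_one]
  · rintro _ ⟨p, hp, rfl⟩ _ ⟨q, hq, rfl⟩
    exact ⟨_, h.comm p hp q hq, by simp only [map_mul, map_inv]⟩
  · rintro _ ⟨p, hp, rfl⟩
    exact ⟨_, h.sq p hp, by simp only [map_mul]⟩
  · rintro _ ⟨u, hu, rfl⟩ h1 h2 _ ⟨x, hx, rfl⟩ h3
    obtain ⟨p, hp, z, hz, e⟩ := h.free u hu (fun e => h1 (mem_map_of_mem _ e))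
      (hf (by rw [map_mul, map_one]; exact h2)) x hx (hf (by rw [map_mul, map_mul]; exact h3))
    exact ⟨f p, mem_map_of_mem _ hp, f z, mem_map_of_mem _ hz, by
      simpa only [map_mul, map_inv] using congrArg f e⟩

/-- The data of the dihedral configuration, seen from one side. -/
structure D8 (E S Q Z Q' Z' : Subgroup G) (u v : G) : Prop where
  side : Side E S Q Q'
  dh : DH S Q Z
  ZE : Z ≤ E
  inf : ∀ x ∈ Z', x ∈ Q → x ∈ Z
  uZ : u ∈ Z'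
  uQ : u ∉ Q
  nc : ¬ Commute u v

namespace D8
variable [Finite G] {E S Q Z S' Q' Z' : Subgroup G} {u v : G}

theorem mem_norm (h : D8 E S Q Z Q' Z' u v) (h' : D8 E S' Q' Z' Q Z v u) {p : G} (hp : p ∈ Q)
    (hu : p * u * p⁻¹ ∈ E) : p ∈ normalizer (E : Set G) := by
  have h1 : ∀ e ∈ E, e ∈ Q → p * e * p⁻¹ ∈ E := fun e he heQ =>
    (E.mul_mem_cancel_left (E.inv_mem he)).1 (h.ZE (h.dh.comm p hp e heQ))
  refine mem_normalizer_of_cj_le (cj_le_iff.2 fun e he => ?_)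
  by_cases heQ : e ∈ Q
  · exact h1 e he heQ
  · have uE := h'.ZE h.uZ
    have := E.mul_mem hu (h1 _ (E.mul_mem (E.inv_mem uE) he) (h.side.ixE.inv_mul uE he h.uQ heQ))
    rwa [show p * u * p⁻¹ * (p * (u⁻¹ * e) * p⁻¹) = p * e * p⁻¹ by group] at this

theorem caseA (h : D8 E S Q Z Q' Z' u v) (h' : D8 E S' Q' Z' Q Z v u) {f : G} (fE : f ∈ E)
    (fQ : f ∈ Q) (fQ' : f ∈ Q') (ff : f * f ≠ 1) :
    ∃ p ∈ normalizer (E : Set G), p ∈ normalizer ((Z ⊓ Z' ⊔ zpowers f : Subgroup G) : Set G) ∧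
      Commute p v ∧ (u * v)⁻¹ * (p * u * p⁻¹) ∈ Z ⊓ Z' ⊔ zpowers f ∧
      u⁻¹ * (p * (u * v) * p⁻¹) ∈ Z ⊓ Z' ⊔ zpowers f := by
  have uE := h'.ZE h.uZ
  have uu := h'.dh.sqZ u h.uZ
  have uf := h'.dh.cent u h.uZ f fQ'
  have vZ := h'.uZ
  obtain ⟨p, hp, z, hz, e⟩ := h.dh.free u (h.side.le uE) h.uQ uu f fQ uf
  have pN := h.mem_norm h' hp (e ▸ E.mul_mem (E.mul_mem uE fE) (h.ZE hz))
  have zf := h.dh.cent z hz f fQ
  have zz := h.dh.sqZ z hz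
  have zQ : z ∉ Q' := fun hzQ => ff (by
    have uz := h'.dh.cent u h.uZ z hzQ
    have : (u * f * z) * (u * f * z) = 1 := by
      rw [← e]
      calc _ = p * (u * u) * p⁻¹ := by group
        _ = 1 := by rw [uu]; group
    rwa [← sq, (uz.mul_left zf.symm).mul_pow, uf.mul_pow, sq, sq, sq, uu, zz, one_mul,
      mul_one] at this)
  have vz : ∀ {x y}, x ∈ Z → y ∈ Z → x ∉ Q' → y ∉ Q' → x * y ∈ Z ⊓ Z' ⊔ zpowers f :=
    fun {x y} hx hy h1 h2 => mem_sup_left ⟨Z.mul_mem hx hy,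
      h'.inf _ (Z.mul_mem hx hy) (h'.side.ixE x (h.ZE hx) y (h.ZE hy) h1 h2)⟩
  have fF : f ∈ Z ⊓ Z' ⊔ zpowers f := mem_sup_right (mem_zpowers f)
  have pv : Commute p v := (h.dh.cent v vZ p hp).symm
  have vf := h.dh.cent v vZ f fQ
  have cZ := h.dh.comm p hp f fQ
  have cZ' : f⁻¹ * (p * f * p⁻¹) ∈ Z' := by
    have h1 : p * p * u * (p * p)⁻¹ ∈ Z' :=
      mem_normalizer_conj (h'.dh.norm (h'.side.le (h.ZE (h.dh.sq p hp)))) h.uZ
    have pz : p * z * p⁻¹ = z := by rw [← (h.dh.cent z hz p hp).eq, mul_inv_cancel_right]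
    have h2 : p * p * u * (p * p)⁻¹ = u * (f * f) * (f⁻¹ * (p * f * p⁻¹)) := by
      calc _ = p * (p * u * p⁻¹) * p⁻¹ := by group
        _ = p * (u * f * z) * p⁻¹ := by rw [e]
        _ = (p * u * p⁻¹) * (p * f * p⁻¹) * (p * z * p⁻¹) := by group
        _ = u * f * (z * (p * f * p⁻¹) * z) := by rw [e, pz]; group
        _ = u * f * (p * f * p⁻¹) := by
            rw [(h.dh.cent z hz _ (Q.mul_mem (Q.mul_mem hp fQ) (Q.inv_mem hp))).eq, mul_assoc _ z,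
              zz, mul_one]
        _ = _ := by group
    rw [h2] at h1
    exact (Z'.mul_mem_cancel_left (Z'.mul_mem h.uZ (h'.dh.sq f fQ'))).1 h1
  refine ⟨p, pN, mem_normalizer_of_cj_le ?_, pv, ?_, ?_⟩
  · rw [cj_sup, cj_zpowers, cj_eq_of_mem_centralizer (T := Z ⊓ Z')
      fun x hx => (h.dh.cent x hx.1 p hp).eq]
    refine sup_le le_sup_left (zpowers_le.2 ?_)
    rw [← mul_inv_cancel_left f (p * f * p⁻¹)]
    exact mul_mem fF (mem_sup_left ⟨cZ, cZ'⟩)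
  · rw [e, show (u * v)⁻¹ * (u * f * z) = v⁻¹ * f * z by group, vf.inv_left.eq, mul_assoc]
    exact mul_mem fF (vz (Z.inv_mem vZ) hz (fun e => h'.uQ (Q'.inv_mem_iff.1 e)) zQ)
  · rw [show p * (u * v) * p⁻¹ = p * u * p⁻¹ * (p * v * p⁻¹) by group, e, pv.eq,
      mul_inv_cancel_right, show u⁻¹ * (u * f * z * v) = f * (z * v) by group]
    exact mul_mem fF (vz hz vZ zQ h'.uQ)

theorem caseB (h : D8 E S Q Z Q' Z' u v) (h' : D8 E S' Q' Z' Q Z v u)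
    (hD : ∀ f ∈ E, f ∈ Q → f ∈ Q' → f * f = 1) :
    ∃ p ∈ S, p ∈ normalizer (E : Set G) ∧ p ∉ E ∧
      p ∈ normalizer ((E ⊓ Q ⊓ Q' : Subgroup G) : Set G) := by
  have uE := h'.ZE h.uZ
  by_cases h1 : E ⊓ Q ⊓ Q' ≤ Z
  · obtain ⟨p, hp, h2, h3⟩ := h.side.ex
    exact ⟨p, h.side.leQ hp, h2, h3,
      centralizer_le_normalizer _ fun x hx => (h.dh.cent x (h1 hx) p hp).eq⟩
  obtain ⟨f, ⟨⟨fE, fQ⟩, fQ'⟩, fZ⟩ := SetLike.not_le_iff_exists.1 h1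
  obtain ⟨p, hp, z, hz, e⟩ := h.dh.free u (h.side.le uE) h.uQ (h'.dh.sqZ u h.uZ) f fQ
    (h'.dh.cent u h.uZ f fQ')
  have pN := h.mem_norm h' hp (e ▸ E.mul_mem (E.mul_mem uE fE) (h.ZE hz))
  refine ⟨p, h.side.leQ hp, pN, fun pE => fZ ?_, ?_⟩
  · have h2 := mem_normalizer_conj (h'.dh.norm (h'.side.le pE)) h.uZ
    rw [e, mul_assoc, Z'.mul_mem_cancel_left h.uZ] at h2
    exact (Z.mul_mem_cancel_right hz).1 (h.inf _ h2 (Q.mul_mem fQ (h.dh.le hz)))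
  · refine inv_mem_iff.1 (mem_normalizer_of_cj_le (cj_le_iff.2 fun d hd => ?_))
    have dE := mem_normalizer_conj (inv_mem pN) hd.1.1
    have dQ := Q.mul_mem (Q.mul_mem (Q.inv_mem hp) hd.1.2) (Q.inv_mem (Q.inv_mem hp))
    refine ⟨⟨dE, dQ⟩, by_contra fun h2 => h.nc ?_⟩
    have df : Commute d f := by
      have := hD _ (E.mul_mem hd.1.1 fE) (Q.mul_mem hd.1.2 fQ) (Q'.mul_mem hd.2 fQ')
      change d * f = f * d
      rw [eq_inv_of_mul_eq_one_left this, mul_inv_rev,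
        ← eq_inv_of_mul_eq_one_left (hD f fE fQ fQ'),
        ← eq_inv_of_mul_eq_one_left (hD d hd.1.1 hd.1.2 hd.2)]
    have h3 : Commute (p * u * p⁻¹) d := e ▸
      ((h'.dh.cent u h.uZ d hd.2).mul_left df.symm).mul_left (h.dh.cent z hz d hd.1.2)
    have h4 : Commute u (p⁻¹ * d * p⁻¹⁻¹) := by
      change u * _ = _ * u
      calc _ = p⁻¹ * (p * u * p⁻¹ * d) * p := by group
        _ = _ := by rw [h3.eq]; group
    have h5 := h'.dh.cent u h.uZ _ (h'.side.ixE v (h.ZE h'.uZ) _ dE h'.uQ h2)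
    have h6 := h5.mul_right h4.inv_right
    rwa [mul_inv_cancel_right] at h6

theorem false (h6 : N6 G) (h : D8 E S Q Z Q' Z' u v) (h' : D8 E S' Q' Z' Q Z v u) : False := by
  have uE := h'.ZE h.uZ
  have vZ := h'.uZ
  have no := fun w hw => h.side.no_three h6 uE (h.ZE vZ) (h.dh.cent v vZ) h.nc (w := w) hw
  by_cases hD : ∀ f ∈ E, f ∈ Q → f ∈ Q' → f * f = 1
  · obtain ⟨a, a1, a2, a3, a4⟩ := h.caseB h' hD
    obtain ⟨b, b1, b2, b3, b4⟩ := h'.caseB h fun f h1 h2 h3 => hD f h1 h3 h2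
    exact no _ (mul_mem a2 b2) (h.side.tri h'.side a1 a2 a3 a4 b1 b2 b3 b4)
  push Not at hD
  obtain ⟨f, fE, fQ, fQ', ff⟩ := hD
  obtain ⟨a, a1, a2, a3, a4, a5⟩ := h.caseA h' fE fQ fQ' ff
  obtain ⟨b, b1, b2, b3, b4, b5⟩ := h'.caseA h fE fQ' fQ ff
  rw [inf_comm Z'] at b2 b4 b5
  have FQ : Z ⊓ Z' ⊔ zpowers f ≤ Q := sup_le (inf_le_left.trans h.dh.le) (zpowers_le.2 fQ)
  have c : (u * v)⁻¹ * (v * u) ∈ Z ⊓ Z' ⊔ zpowers f := mem_sup_left ⟨by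
    rw [show (u * v)⁻¹ * (v * u) = v⁻¹ * (u⁻¹ * v * u) by group]
    exact Z.mul_mem (Z.inv_mem vZ) (mem_normalizer_conj' (h.dh.norm (h.side.le uE)) vZ), by
    rw [show (u * v)⁻¹ * (v * u) = v⁻¹ * u⁻¹ * v * u by group]
    exact Z'.mul_mem (mem_normalizer_conj' (h'.dh.norm (h'.side.le (h.ZE vZ))) (Z'.inv_mem h.uZ))
      h.uZ⟩
  generalize Z ⊓ Z' ⊔ zpowers f = F at *
  have step : ∀ {p r s x : G}, p ∈ normalizer (F : Set G) → s⁻¹ * (p * r * p⁻¹) ∈ F →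
      r⁻¹ * x ∈ F → s⁻¹ * (p * x * p⁻¹) ∈ F := fun {p r s x} hp h1 h2 => by
    have := F.mul_mem h1 (mem_normalizer_conj hp h2)
    rwa [show s⁻¹ * (p * r * p⁻¹) * (p * (r⁻¹ * x) * p⁻¹) = s⁻¹ * (p * x * p⁻¹) by group] at this
  have fix : ∀ {p r : G}, Commute p r → r⁻¹ * (p * r * p⁻¹) ∈ F := fun {p r} hc => by
    rw [hc.eq, mul_inv_cancel_right, inv_mul_cancel]; exact F.one_mem
  have e : ∀ x, a * b * x * (a * b)⁻¹ = a * (b * x * b⁻¹) * a⁻¹ := fun x => by group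
  have vQ := h.dh.le vZ
  refine no _ (mul_mem a1 b1) (tri_pred (fun x => v⁻¹ * x ∈ F) (fun x => u⁻¹ * x ∈ F)
    (fun x => (u * v)⁻¹ * x ∈ F) (fun x hx => ?_) (fun x hx => ?_) (fun x hx => ?_) (x := v)
    (by rw [inv_mul_cancel]; exact F.one_mem) (fun hx => h.uQ ?_) fun hx => h.uQ ?_)
  · rw [e]
    refine step a2 a5 ?_
    have := F.mul_mem c (step b2 b4 hx)
    rwa [mul_assoc, mul_inv_cancel_left] at this
  · rw [e]
    exact step a2 a4 (step b2 (fix b3) hx)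
  · rw [e]
    refine step a2 (fix a3) (step b2 b5 ?_)
    have := F.mul_mem (F.inv_mem c) hx
    rwa [show ((u * v)⁻¹ * (v * u))⁻¹ * ((u * v)⁻¹ * x) = (v * u)⁻¹ * x by group] at this
  · exact Q.inv_mem_iff.1 ((Q.mul_mem_cancel_right vQ).1 (FQ hx))
  · exact (Q.mul_mem_cancel_right vQ).1 (Q.inv_mem_iff.1 ((Q.mul_mem_cancel_right vQ).1 (FQ hx)))

end D8

end Cfsg.Lib.NoSix
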