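import Cfsg.Agent.NoSix.Ring
import Cfsg.Agent.CITCor.NatMod
import Cfsg.Agent.CITCor.L2Even
import Cfsg.Agent.Solv.Cores
import Cfsg.Agent.Solv.PGroupBasic
import Cfsg.Agent.S0088

/-!
# The structure of a group with quadratic elements of order three
-/

set_option autoImplicit false

universe u

namespace Cfsg.Lib.NoSix

open Subgroup Cfsg.Lib.Trans Cfsg.Lib.CITCor Cfsg.Lib.Class
open scoped commutatorElement MatrixGroups

/-- The recognition of `L₂(2ⁿ)` among the known groups. -/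
def KB : Prop :=
  ∀ (N : Type u) [Group N] [Finite N] [IsSimpleGroup N], ¬ IsMulCommutative N → N6 N → Known0 N →
    3 ∣ Nat.card N → Quad N → IsL2Even N

variable {G : Type*} [Group G] {H : Type*} [Group H]

theorem mem_of_mul_coprime (K : Subgroup G) [K.Normal] {k z : G} {m n : ℕ} (hk : k ∈ K)
    (h1 : (k * z) ^ m = 1) (h2 : z ^ n = 1) (hc : m.Coprime n) : z ∈ K := by
  rw [← QuotientGroup.eq_one_iff]
  refine QRep.eq_one_of_coprime (m := m) (n := n) ?_ ?_ hc
  · have := congrArg (QuotientGroup.mk' K) h1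
    rwa [map_pow, map_mul, map_one, QuotientGroup.mk'_apply, (QuotientGroup.eq_one_iff _).2 hk,
      one_mul] at this
  · rw [← QuotientGroup.mk_pow, h2, QuotientGroup.mk_one]

theorem exists_lift_pow [Finite G] (f : G →* H) {n : ℕ} (hc : (Nat.card f.ker).Coprime n)
    {x : G} (hx : f x ^ n = 1) : ∃ j : ℕ, f (x ^ j) = f x ∧ (x ^ j) ^ n = 1 := by
  obtain ⟨j, h1, h2⟩ := Nat.chineseRemainder hc 0 1
  refine ⟨j, ?_, ?_⟩
  · rw [map_pow, pow_eq_pow_of_modEq h2 hx, pow_one]
  · have hm : x ^ n ∈ f.ker := by rw [MonoidHom.mem_ker, map_pow, hx]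
    have h3 : (x ^ n) ^ Nat.card f.ker = 1 :=
      congrArg Subtype.val (pow_card_eq_one' (x := (⟨_, hm⟩ : f.ker)))
    rw [← pow_mul, mul_comm, pow_mul, pow_eq_pow_of_modEq h1 h3, pow_zero]

theorem exists_lift [Finite G] (f : G →* H) (hf : Function.Surjective f) {n : ℕ}
    (hc : (Nat.card f.ker).Coprime n) {z : H} (hz : z ^ n = 1) : ∃ x : G, f x = z ∧ x ^ n = 1 := by
  obtain ⟨x, rfl⟩ := hf z
  obtain ⟨j, h⟩ := exists_lift_pow f hc hz
  exact ⟨_, h⟩

theorem lift_unique [Finite G] (f : G →* H) (hZ : f.ker ≤ center G) {n : ℕ}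
    (hc : (Nat.card f.ker).Coprime n) {x x' : G} (hx : x ^ n = 1) (hx' : x' ^ n = 1)
    (e : f x = f x') : x = x' := by
  have hm : x⁻¹ * x' ∈ f.ker := by rw [MonoidHom.mem_ker, map_mul, map_inv, e, inv_mul_cancel]
  have h1 : (x⁻¹ * x') ^ n = 1 := by
    have hc : Commute x (x⁻¹ * x') := mem_center_iff.1 (hZ hm) x
    have := hc.mul_pow n
    rwa [mul_inv_cancel_left, hx, hx', one_mul, eq_comm] at this
  have := QRep.eq_one_of_coprime
    (congrArg Subtype.val (pow_card_eq_one' (x := (⟨_, hm⟩ : f.ker)))) h1 hc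
  exact inv_mul_eq_one.1 this

theorem Quad.of_central [Finite G] (h : Quad G) (f : G →* H) (hf : Function.Surjective f)
    (hZ : f.ker ≤ center G) (hc : (Nat.card f.ker).Coprime 6) : Quad H := by
  have c2 : (Nat.card f.ker).Coprime 2 := hc.coprime_dvd_right (by norm_num)
  have c3 : (Nat.card f.ker).Coprime 3 := hc.coprime_dvd_right (by norm_num)
  refine ⟨fun y y' h1 h2 h3 h4 h5 => ?_, fun R y h1 h2 h3 r hr => ?_,
    fun a b y g k h1 h2 h3 h4 h5 h6 h7 h8 h9 h10 => ?_⟩
  · obtain ⟨y, rfl, k1⟩ := exists_lift f hf c3 h1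
    obtain ⟨y', rfl, k2⟩ := exists_lift f hf c3 h2
    have : y * y' * y⁻¹ = y' := lift_unique f hZ c3 (by rw [conj_pow, k2]; group) k2
      (by rw [map_mul, map_mul, h5.eq, map_inv, mul_inv_cancel_right])
    rcases h.b1 y y' k1 k2 (fun e => h3 (by rw [e, map_one])) (fun e => h4 (by rw [e, map_one]))
      (mul_inv_eq_iff_eq_mul.1 this) with e | e
    · exact .inl (by rw [e])
    · exact .inr (by rw [e, map_inv])
  · obtain ⟨y, rfl, k2⟩ := exists_lift f hf c3 h2
    obtain ⟨r, rfl⟩ := hf r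
    refine (h.b2 (R.comap f) y ?_ k2 (le_normalizer_comap f h3) r hr).map f
    rw [← card_mul_relIndex (T := f.ker) (ker_le_comap f R), relIndex_ker,
      map_comap_eq_self_of_surjective hf]
    exact Nat.Coprime.mul_left hc h1
  · obtain ⟨a, rfl, k1⟩ := exists_lift f hf c2 (z := a) (by rwa [sq])
    obtain ⟨b, rfl, k2⟩ := exists_lift f hf c2 (z := b) (by rwa [sq])
    obtain ⟨y, rfl, k4⟩ := exists_lift f hf c3 h4
    obtain ⟨g, rfl, k7⟩ := exists_lift f hf c3 h7
    obtain ⟨k, rfl⟩ := hf k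
    have e3 : Commute a b := mul_inv_eq_iff_eq_mul.1 (lift_unique f hZ c2
      (by rw [conj_pow, k2]; group) k2
      (by rw [map_mul, map_mul, h3.eq, map_inv, mul_inv_cancel_right]))
    have := h.b3 a b y g k (by rwa [← sq]) (by rwa [← sq]) e3 k4
      (lift_unique f hZ c2 (by rw [conj_pow, k1]; group) k2 (by simpa using h5))
      (lift_unique f hZ c2 (by rw [conj_pow, k2]; group) (by rw [e3.mul_pow, k1, k2, one_mul])
        (by simpa using h6)) k7 (fun e => h8 (by rw [e, map_one]))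
      (lift_unique f hZ c3 (by rw [conj_pow, k7]; group) (by rw [inv_pow, k7, inv_one])
        (by simpa using h9))
      (mul_inv_eq_iff_eq_mul.1 (lift_unique f hZ c2 (by rw [conj_pow, k1]; group) k1
        (by rw [map_mul, map_mul, h10.eq, map_inv, mul_inv_cancel_right])))
    simpa using this.map f

/-- A normal subgroup of order divisible by three contains all elements of order three. -/
theorem Quad.mem_of_normal [Finite G] (h : Quad G) (M : Subgroup G) [M.Normal]
    (h3 : 3 ∣ Nat.card M) {y : G} (hy : y ^ 3 = 1) : y ∈ M := by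
  by_cases hy1 : y = 1
  · rw [hy1]; exact M.one_mem
  have := Fact.mk Nat.prime_three
  obtain ⟨Q, hQ, hyQ⟩ := exists_isSylowIn_ge (p := 3) (Q := zpowers y) (H := ⊤)
    (IsPGroup.of_card (n := 1) (by rw [Nat.card_zpowers, orderOf_eq_three hy hy1, pow_one])) le_top
  have h1 : Q ⊓ M ≠ ⊥ := fun e =>
    (hQ.inf_normal_of_le (by rw [normalizer_eq_top]) le_top).eq_bot_iff.1 e h3
  have := hQ.isPGroup.isNilpotent
  have h2 := Solv.PG.inf_center_ne_bot (M.subgroupOf Q) (fun e => h1 (by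
    rwa [subgroupOf_eq_bot, disjoint_iff, inf_comm] at e))
  obtain ⟨⟨z, hz⟩, hz1⟩ := ne_bot_iff_exists_ne_one.1 h2
  have hz2 : (z : G) ≠ 1 := fun e => hz1 (Subtype.ext (Subtype.ext e))
  obtain ⟨k, hk⟩ := hQ.isPGroup z
  obtain ⟨j, -, hj⟩ := (Nat.dvd_prime_pow Nat.prime_three).1
    (orderOf_dvd_of_pow_eq_one (congrArg Subtype.val hk : (z : G) ^ 3 ^ k = 1))
  obtain ⟨m, h4, h5⟩ := exists_pow_three (w := (z : G)) (by
    rw [hj]
    refine dvd_pow_self 3 fun e => hz2 ?_
    rwa [e, pow_zero, orderOf_eq_one_iff] at hj)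
  have hc : Commute (z : G) y :=
    (congrArg Subtype.val (mem_center_iff.1 hz.2 ⟨y, hyQ (mem_zpowers y)⟩)).symm
  have hm : (z : G) ^ m ∈ M := M.pow_mem hz.1 m
  rcases h.b1 _ y h5 hy h4 hy1 (hc.pow_left m) with e | e
  · rwa [e]
  · rw [e]; exact M.inv_mem hm

theorem N6.odd_orderOf [Finite G] (h : N6 G) {c y : G} (hy : y ^ 3 = 1) (hy1 : y ≠ 1)
    (hc : Commute c y) : Odd (orderOf c) := by
  by_contra h2
  obtain ⟨k, hk⟩ := even_iff_two_dvd.1 (Nat.not_odd_iff_even.1 h2)
  have h0 := orderOf_pos c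
  refine h.not_commute (a := c ^ k) ?_ (pow_ne_one_of_lt_orderOf (by omega) (by omega)) hy hy1
    (hc.pow_left k)
  rw [← pow_add, ← two_mul, ← hk, pow_orderOf_eq_one]

/-- A group generated by quadratic elements of order three. -/
theorem struct_of_gen (kb : KB.{u}) {K : Type u} [Group K] [Finite K] (h6 : N6 K) (hQ : Quad K)
    (hgen : closure {y : K | y ^ 3 = 1} = ⊤) (hodd : Odd (Nat.card (pPrimeCore 3 K)))
    (ih : IH.{u} (Nat.card K + 1)) : IsMulCommutative K ∨ IsL2Even K := by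
  have := Fact.mk Nat.prime_three
  have hn : (pPrimeCore 3 K).Normal := inferInstance
  have h3 := Solv.coprime_card_pPrimeCore 3 K
  have hle : ∀ M : Subgroup K, M.Normal → (Nat.card M).Coprime 3 → M ≤ pPrimeCore 3 K :=
    fun M => Solv.le_pPrimeCore
  generalize pPrimeCore 3 K = Z at *
  have hc : (Nat.card Z).Coprime 6 := Nat.Coprime.mul_right (Nat.coprime_two_right.2 hodd) h3
  have hZ : Z ≤ center K := fun z hz => by
    have : closure {y : K | y ^ 3 = 1} ≤ centralizer {z} := (closure_le _).2 fun y hy =>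
      mem_centralizer_singleton_iff.2 (hQ.b2 Z y hc hy (by rw [normalizer_eq_top]; trivial) z hz)
    exact mem_center_iff.2 fun g => mem_centralizer_singleton_iff.1 (this (hgen ▸ mem_top g))
  by_cases hab : IsMulCommutative K
  · exact .inl hab
  right
  have hZt : Z ≠ ⊤ := fun e => hab ⟨⟨fun a b => mem_center_iff.1 (hZ (e ▸ mem_top b)) a⟩⟩
  have hker := QuotientGroup.ker_mk' Z
  have hsurj := QuotientGroup.mk'_surjective Z
  have top : ∀ M : Subgroup K, M.Normal → 3 ∣ Nat.card M → M = ⊤ := fun M _ hM =>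
    top_le_iff.1 (hgen ▸ (closure_le _).2 fun y hy => hQ.mem_of_normal M hM hy)
  have hnt : Nontrivial (K ⧸ Z) := QuotientGroup.nontrivial_iff.2 hZt
  have hs : IsSimpleGroup (K ⧸ Z) := ⟨fun M hM => by
    by_cases h1 : 3 ∣ Nat.card (M.comap (QuotientGroup.mk' Z))
    · right
      rw [← map_comap_eq_self_of_surjective hsurj M, top _ (hM.comap _) h1,
        map_top_of_surjective _ hsurj]
    · left
      rw [← map_comap_eq_self_of_surjective hsurj M, Subgroup.map_eq_bot_iff, hker]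
      exact hle _ (hM.comap _) ((Nat.Prime.coprime_iff_not_dvd Nat.prime_three).2 h1).symm⟩
  have hna : ¬ IsMulCommutative (K ⧸ Z) := fun h => by
    have : IsCyclic (K ⧸ Z) := by
      open scoped IsMulCommutative in exact IsSimpleGroup.isCyclic
    exact hab ((QuotientGroup.mk' Z).isMulCommutative_of_isCyclic_of_ker_le_center
      (hker.le.trans hZ))
  have h3K : 3 ∣ Nat.card (K ⧸ Z) := by
    by_contra h
    refine hZt (top_le_iff.1 (hle ⊤ inferInstance ?_))
    rw [card_top, card_eq_card_quotient_mul_card_subgroup Z]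
    exact Nat.Coprime.mul_left ((Nat.Prime.coprime_iff_not_dvd Nat.prime_three).2 h).symm h3
  have hL := kb (K ⧸ Z) hna (h6.quotient Z)
    (ih _ hna (h6.quotient Z) (Nat.lt_succ_of_le (Nat.le_of_dvd Nat.card_pos
      (card_quotient_dvd_card Z)))) h3K
    (hQ.of_central _ hsurj (hker.le.trans hZ) (by rwa [hker]))
  have hperf : commutator K = ⊤ := by
    refine top_le_iff.1 (hgen ▸ (closure_le _).2 fun y hy => ?_)
    have h1 : (y : K ⧸ Z) ∈ (commutator K).map (QuotientGroup.mk' Z) := by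
      rw [_root_.commutator_def, map_commutator, map_top_of_surjective _ hsurj,
        ← _root_.commutator_def,
        commutator_eq_top_of_simple hna]
      trivial
    obtain ⟨k, hk, e⟩ := h1
    have hz : k⁻¹ * y ∈ Z := QuotientGroup.eq.1 e
    exact mem_of_mul_coprime _ ((commutator K).inv_mem hk)
      (congrArg Subtype.val (pow_card_eq_one' (x := (⟨_, hz⟩ : Z)))) hy h3
  have hZb : Z = ⊥ := by
    by_contra h
    obtain ⟨r, hr, hd⟩ := Nat.exists_prime_and_dvd (n := Nat.card Z) (by rwa [Ne, card_eq_one])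
    have := Fact.mk hr
    obtain ⟨z, hz⟩ := exists_prime_orderOf_dvd_card' r hd
    have hr2 : r ≠ 2 := by rintro rfl; exact (Nat.not_even_iff_odd.2 hodd) (even_iff_two_dvd.2 hd)
    obtain ⟨P, hP⟩ := IsPGroup.exists_le_sylow (p := r) (P := zpowers (z : K))
      (IsPGroup.of_card (n := 1) (by rw [Nat.card_zpowers, orderOf_coe, hz, pow_one]))
    have hcyc := hL.isCyclic_of_isPGroup hr2 (P.isPGroup'.map (QuotientGroup.mk' Z))
    have hcomm : IsMulCommutative (P : Subgroup K) :=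
      ((QuotientGroup.mk' Z).subgroupMap P).isMulCommutative_of_isCyclic_of_ker_le_center
        fun x hx => mem_center_iff.2 fun g => Subtype.ext
          (mem_center_iff.1 (hZ ((QuotientGroup.eq_one_iff _).1 (congrArg Subtype.val hx))) g)
    have h1 := Cfsg.Agent.S0088.result (P : Subgroup K) hcomm P.card_coprime_index
    have h2 : (z : K) ∈ (P : Subgroup K) ⊓ commutator K ⊓ center K :=
      ⟨⟨hP (mem_zpowers _), hperf ▸ mem_top _⟩, hZ z.2⟩
    rw [h1, mem_bot] at h2
    rw [show z = 1 from Subtype.ext h2, orderOf_one] at hz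
    exact hr.ne_one hz.symm
  subst hZb
  exact hL.of_equiv QuotientGroup.quotientBot

/-- The dichotomy for the faithful quotient. -/
theorem gamma_struct (kb : KB.{u}) {Γ : Type u} [Group Γ] [Finite Γ] (h6 : N6 Γ) (hQ : Quad Γ)
    (hodd : ∀ R : Subgroup Γ, R.Normal → (Nat.card R).Coprime 3 → Odd (Nat.card R))
    (ih : IH.{u} (Nat.card Γ + 1)) {y : Γ} (hy : y ^ 3 = 1) (hy1 : y ≠ 1) :
    (∀ y' : Γ, y' ^ 3 = 1 → y' ≠ 1 → y' = y ∨ y' = y⁻¹) ∨
      ∃ (K : Subgroup Γ) (F : Type) (_ : Field F) (_ : Fintype F) (_ : K ≃* SL(2, F)),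
        (2 : F) = 0 ∧ 4 ≤ Fintype.card F ∧ K.Normal ∧ (∀ y' : Γ, y' ^ 3 = 1 → y' ∈ K) ∧
          ∀ (t : Γ) (k : ℕ), t ^ 2 ^ k = 1 → t ∈ K := by
  let K : Subgroup Γ := closure {y : Γ | y ^ 3 = 1}
  have hK : ∀ y' : Γ, y' ^ 3 = 1 → y' ∈ K := fun y' h => subset_closure h
  have hn : K.Normal := ⟨fun k hk g => by
    have : cj g K ≤ K := by
      rw [cj_closure]
      refine closure_mono ?_
      rintro _ ⟨x, hx, rfl⟩
      change (g * x * g⁻¹) ^ 3 = 1
      rw [conj_pow, hx]; group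
    exact this (conj_mem_cj.2 hk)⟩
  have hgen : closure {y : K | y ^ 3 = 1} = ⊤ := by
    rw [← closure_closure_coe_preimage (k := {y : Γ | y ^ 3 = 1})]
    congr 1
    ext x
    exact ⟨fun h => congrArg Subtype.val h, fun h => Subtype.ext h⟩
  have hoK : Odd (Nat.card (pPrimeCore 3 K)) := by
    rw [← card_map_of_injective K.subtype_injective]
    exact hodd _ inferInstance (Solv.coprime_card_map_pPrimeCore 3 K)
  rcases struct_of_gen kb (h6.subgroup K) (hQ.of_injective _ K.subtype_injective) hgen hoK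
    (ih.mono (Nat.succ_le_succ (card_le_card_group K))) with h | h
  · exact .inl fun y' h1 h2 => hQ.b1 y y' hy h1 hy1 h2
      (congrArg Subtype.val (h.1.1 (⟨y, hK y hy⟩ : K) ⟨y', hK y' h1⟩))
  right
  obtain ⟨F, _, _, n, hn2, hF, h2, -, ⟨e⟩⟩ := h.exists_SL2
  refine ⟨K, F, inferInstance, inferInstance, e, h2,
    hF ▸ Nat.pow_le_pow_right (n := 2) (i := 2) (by norm_num) hn2, hn, hK, fun t k ht => ?_⟩
  have conj : ∀ x : K, x ^ 3 = 1 → x ≠ 1 → IsConj (e x) (slU 1 * slV 1⁻¹) := fun x h3 h1 =>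
    isConj_slU_mul_slV h2 (fun e' => h1 (e.map_eq_one_iff.1 e')) (by rw [← map_pow, h3, map_one])
      one_ne_zero
  have ht3 : (t * y * t⁻¹) ^ 3 = 1 := by rw [conj_pow, hy]; group
  obtain ⟨c, hc⟩ := isConj_iff.1 ((conj ⟨_, hK _ ht3⟩ (Subtype.ext ht3) fun e' => hy1 (by
    simpa [mul_inv_eq_one] using congrArg Subtype.val e')).trans
      (conj ⟨y, hK y hy⟩ (Subtype.ext hy) fun e' => hy1 (congrArg Subtype.val e')).symm)
  obtain ⟨c, rfl⟩ := e.surjective c
  rw [← map_inv, ← map_mul, ← map_mul] at hc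
  have hc' : (c : Γ) * (t * y * t⁻¹) * (c : Γ)⁻¹ = y := congrArg Subtype.val (e.injective hc)
  have hodd' := h6.odd_orderOf hy hy1 (c := c * t) (by
    change c * t * y = y * (c * t)
    nth_rw 2 [← hc']; group)
  exact mem_of_mul_coprime K c.2 (pow_orderOf_eq_one _) ht
    ((Nat.coprime_two_right.2 hodd').pow_right k)

end Cfsg.Lib.NoSix
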