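import Cfsg.Agent.NoSix.QuadK
import Cfsg.Agent.AutL34.Aut
import Cfsg.Agent.Class.HermField

/-!
# The primes two and three in the prime graph of a simple group
-/

set_option autoImplicit false

universe u

namespace Cfsg.Lib.NoSix

open Subgroup Matrix
open scoped MatrixGroups

/-- the prime graph -/
abbrev PrG (G : Type*) [Group G] : SimpleGraph ℕ :=
  SimpleGraph.fromRel (fun p q : ℕ => p.Prime ∧ q.Prime ∧ ∃ g : G, orderOf g = p * q)

section Basic

variable {G H : Type*} [Group G] [Group H]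

theorem prG_congr (e : G ≃* H) : PrG G = PrG H :=
  congrArg SimpleGraph.fromRel (funext₂ fun _ _ => propext (and_congr_right fun _ =>
    and_congr_right fun _ => ⟨fun ⟨g, h⟩ => ⟨e g, by rwa [e.orderOf_eq]⟩,
      fun ⟨g, h⟩ => ⟨e.symm g, by rwa [e.symm.orderOf_eq]⟩⟩))

theorem adj_of_comm {a b : G} {p q : ℕ} (hp : p.Prime) (hq : q.Prime) (h : p ≠ q) (a1 : a ^ p = 1)
    (a2 : a ≠ 1) (b1 : b ^ q = 1) (b2 : b ≠ 1) (c : Commute a b) : (PrG G).Adj p q := by
  have := Fact.mk hp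
  have := Fact.mk hq
  have a3 := orderOf_eq_prime a1 a2
  have b3 := orderOf_eq_prime b1 b2
  exact (SimpleGraph.fromRel_adj _ _ _).2 ⟨h, .inl ⟨hp, hq, a * b, by
    rw [c.orderOf_mul_eq_mul_orderOf_of_coprime (by rw [a3, b3]; exact (Nat.coprime_primes hp hq).2 h),
      a3, b3]⟩⟩

theorem not_reachable (S : ℕ → Prop) {a b : ℕ} (ha : S a) (hb : ¬ S b)
    (h : ∀ p q : ℕ, p.Prime → q.Prime → p ≠ q → S p → ∀ g : G, orderOf g = p * q → S q) :
    ¬ (PrG G).Reachable a b := fun e => hb (by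
  clear hb
  induction (SimpleGraph.reachable_iff_reflTransGen _ _).1 e with
  | refl => exact ha
  | tail h1 h2 ih =>
    have ih := ih ((SimpleGraph.reachable_iff_reflTransGen _ _).2 h1)
    obtain ⟨h3, ⟨a1, a2, g, a3⟩ | ⟨a1, a2, g, a3⟩⟩ := (SimpleGraph.fromRel_adj _ _ _).1 h2
    · exact h _ _ a1 a2 h3 ih g a3
    · exact h _ _ a2 a1 h3 ih g (a3.trans (mul_comm _ _)))

end Basic

theorem exists_prime_ge_five {N : ℕ} (h1 : N % 2 = 1) (h2 : ∀ k, N ≠ 3 ^ k) :
    ∃ r, r.Prime ∧ 5 ≤ r ∧ r ∣ N := by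
  by_contra h
  push Not at h
  refine h2 _ (Nat.eq_prime_pow_of_unique_prime_dvd (by omega) fun {d} hd e => ?_)
  have := hd.two_le
  have : ¬ 5 ≤ d := fun e' => h d hd e' e
  interval_cases d
  · omega
  · rfl
  · exact absurd hd (by decide)

theorem three_pow_mod (k : ℕ) : 3 ^ k % 80 = 1 ∨ 3 ^ k % 80 = 3 ∨ 3 ^ k % 80 = 9 ∨ 3 ^ k % 80 = 27 := by
  induction k with
  | zero => simp
  | succ k ih => omega

theorem Mon3.reachable {M F : Type*} [Group M] [Field F] {ι : M →* Matrix (Fin 3) (Fin 3) F} {N : ℕ}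
    (h : Mon3 ι N) {r : ℕ} (hr : r.Prime) (h5 : 5 ≤ r) (hN : r ∣ N) {y : M} {α β γ δ : F}
    (hy : ι y = !![1, 0, 0; 0, α, β; 0, γ, δ]) (h1 : α + δ = 1) (h2 : α * δ + β * γ = 1) :
    (PrG (M ⧸ center M)).Reachable 2 3 := by
  obtain ⟨a, ha⟩ := h.root r hN
  have hN : ∀ k, (a ^ k) ^ N = 1 := fun k => by
    rw [← pow_mul, mul_comm, pow_mul, (ha.pow_eq_one_iff_dvd _).2 hN, one_pow]
  obtain ⟨s, hs⟩ := h.s
  obtain ⟨t, ht⟩ := h.t
  obtain ⟨x, hx⟩ := h.d (a ^ (r - 2)) (a ^ 1) (a ^ 1) (hN _) (hN _) (hN _) (by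
    rw [← pow_add, ← pow_add, show r - 2 + 1 + 1 = r by omega, ha.pow_eq_one])
  have hu : ι (s * t * (s * s)) = !![1, 0, 0; 0, 0, 1; 0, 1, 0] := by
    rw [map_mul, map_mul, map_mul, hs, ht]
    ext i j
    fin_cases i <;> fin_cases j <;> simp [Matrix.mul_apply, Fin.sum_univ_three]
  have x1 : cq M x ^ r = 1 := by
    have e : ∀ k, ι (x ^ k) = !![(a ^ (r - 2)) ^ k, 0, 0; 0, a ^ k, 0; 0, 0, a ^ k] := fun k => by
      induction k with
      | zero => ext i j; fin_cases i <;> fin_cases j <;> simp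
      | succ k ih =>
        rw [pow_succ, map_mul, ih, hx]
        ext i j
        fin_cases i <;> fin_cases j <;> simp [Matrix.mul_apply, Fin.sum_univ_three, pow_succ]
    rw [← map_pow]
    refine cq_eq_one (h.central (c := 1) ?_)
    rw [e, ← pow_mul, mul_comm, pow_mul, ha.pow_eq_one, one_pow]
  have x2 : cq M x ≠ 1 := cq_ne_one (x := s) fun e => by
    have := ha.pow_inj (by omega) (by omega) (Mon3.eq_of_comm_s hs hx e)
    omega
  have two := h.two
  refine (adj_of_comm (a := cq M (s * t * (s * s))) Nat.prime_two hr (by omega) ?_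
    (cq_ne_one (x := s) fun e => ?_) x1 x2 (Commute.map (h.inj ?_) _)).reachable.trans
    (adj_of_comm (b := cq M y) hr Nat.prime_three (by omega) x1 x2 ?_
      (cq_ne_one (x := s) fun e => ?_) (Commute.map (h.inj ?_) _)).reachable
  · rw [sq, ← map_mul, show s * t * (s * s) * (s * t * (s * s)) = 1 from h.inj ?_, map_one]
    rw [map_mul, hu, map_one]
    ext i j
    fin_cases i <;> fin_cases j <;> simp [Matrix.mul_apply, Fin.sum_univ_three]
  · have := congrArg ι e.eq
    rw [map_mul _ s, map_mul _ _ s, hu, hs] at this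
    simpa [Matrix.mul_apply, Fin.sum_univ_three] using congrFun (congrFun this 0) 1
  · rw [map_mul _ _ x, map_mul _ x, hu, hx]
    ext i j
    fin_cases i <;> fin_cases j <;> simp [Matrix.mul_apply, Fin.sum_univ_three]
  · rw [← map_pow]
    refine cq_eq_one (h.central (c := 1) ?_)
    obtain rfl : δ = 1 - α := by linear_combination h1
    rw [pow_succ, pow_two, map_mul, map_mul, hy]
    ext i j
    fin_cases i <;> fin_cases j <;> simp [Matrix.mul_apply, Fin.sum_univ_three]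
    · linear_combination (α + 1) * h2 + (α ^ 3) * two
    · linear_combination β * h2 + (β * (α ^ 2 - α + 1)) * two
    · linear_combination γ * h2 + (γ * (α ^ 2 - α + 1)) * two
    · linear_combination (2 - α) * h2 + (1 - α) ^ 3 * two
  · have := congrArg ι e.eq
    rw [map_mul, map_mul, hs, hy] at this
    have a1 := congrFun (congrFun this 1) 0
    have a2 := congrFun (congrFun this 0) 2
    simp [Matrix.mul_apply, Fin.sum_univ_three] at a1 a2
    exact one_ne_zero (α := F) (by linear_combination two - h1 - a1 + a2)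
  · rw [map_mul, map_mul, hx, hy]
    ext i j
    fin_cases i <;> fin_cases j <;> simp [Matrix.mul_apply, Fin.sum_univ_three, mul_comm]

section Fields

variable {F : Type*} [Field F] [Fintype F]

theorem reachable_psl3 {n : ℕ} (hn : 3 ≤ n) (hF : Fintype.card F = 2 ^ n) :
    (PrG (ProjectiveSpecialLinearGroup (Fin 3) F)).Reachable 2 3 := by
  have h2 := two_eq_zero_of_card (by omega) hF
  have h8 : 2 ^ 3 ∣ 2 ^ n := pow_dvd_pow 2 hn
  have := Nat.two_pow_pos n
  obtain ⟨r, hr, h5, hN⟩ := exists_prime_ge_five (N := Fintype.card F - 1) (by omega) fun k e => by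
    have := three_pow_mod k
    omega
  exact (mon3_SL h2).reachable hr h5 hN (y := ⟨!![1, 0, 0; 0, 0, 1; 0, 1, 1], by
    simp [det_fin_three]; linear_combination -h2⟩) rfl (by simp) (by simp)

theorem reachable_psu3 {n : ℕ} (hn : 2 ≤ n) (h3 : n ≠ 3) (hF : Fintype.card F = (2 ^ n) ^ 2) :
    (PrG (PSU 3 F (2 ^ n))).Reachable 2 3 := by
  have h2 : (2 : F) = 0 := two_eq_zero_of_card (n := n * 2) (by omega) (by rw [hF, pow_mul])
  have h4 : 2 ^ 2 ∣ 2 ^ n := pow_dvd_pow 2 hn
  obtain ⟨r, hr, h5, hN⟩ := exists_prime_ge_five (N := 2 ^ n + 1) (by omega) fun k e => by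
    have := three_pow_mod k
    rcases hn.eq_or_lt with rfl | h
    · omega
    have : 2 ^ 4 ∣ 2 ^ n := pow_dvd_pow 2 (by omega)
    exact absurd (Nat.prime_five.dvd_of_dvd_pow (show 5 ∣ 2 ^ n by omega)) (by decide)
  have s1 := Class.frobq_ne_id hF
  have s2 := Class.frobq_frobq hF
  obtain ⟨a, ha⟩ := Class.Form.exists_trace_eq s1 s2 (map_one _)
  obtain ⟨b, hb⟩ := Class.Form.exists_norm_eq s1 s2 (μ := 1 + a * Class.frobq hF a)
    (by rw [map_add, map_one, map_mul, s2, mul_comm])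
  generalize hσ : Class.frobq hF = σ at *
  have e : ∀ x : F, x ^ 2 ^ n = σ x := fun x => by rw [← hσ]; rfl
  refine (mon3_SU h2 hF).reachable hr h5 hN (y := ⟨⟨!![1, 0, 0; 0, a, b; 0, σ b, σ a], by
    simp [det_fin_three]; linear_combination -hb - h2⟩, fun u v => ?_⟩) rfl ha
    (by linear_combination hb + a * σ a * h2)
  change hermForm 3 F _ (!![1, 0, 0; 0, a, b; 0, σ b, σ a] *ᵥ u)
    (!![1, 0, 0; 0, a, b; 0, σ b, σ a] *ᵥ v) = _
  simp [hermForm, Fin.sum_univ_three, mulVec, dotProduct, e, s2]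
  linear_combination (u 1 * σ (v 1) + u 2 * σ (v 2)) * hb + (a * σ a * (u 1 * σ (v 1) +
    u 2 * σ (v 2)) + a * σ b * u 1 * σ (v 2) + b * σ a * u 2 * σ (v 1)) * h2

theorem dvd_of_psl2 {p q : ℕ} (hp : p.Prime) (hq : q.Prime)
    {g : ProjectiveSpecialLinearGroup (Fin 2) F} (h : orderOf g = p * q) :
    p * q ∣ (Fintype.card F - 1) / Nat.gcd 2 (Fintype.card F - 1) ∨
      p * q ∣ (Fintype.card F + 1) / Nat.gcd 2 (Fintype.card F - 1) := by
  have := Fact.mk (CharP.char_is_prime F (ringChar F))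
  refine h ▸ (Known.GL2.orderOf_PSL2_cases (ringChar F) g).resolve_left fun e => ?_
  exact Nat.not_prime_mul hp.ne_one hq.ne_one (h ▸ e ▸ this.out)

theorem ringChar_dvd : ringChar F ∣ Fintype.card F :=
  (ringChar.spec F _).1 (FiniteField.cast_card_eq_zero F)

theorem not_reachable_psl2 (h : ringChar F = 2 ∨ ringChar F = 3 ∨
    (Fintype.card F % 12 = 5 ∨ Fintype.card F % 12 = 7)) :
    ¬ (PrG (ProjectiveSpecialLinearGroup (Fin 2) F)).Reachable 2 3 := by
  have h0 := ringChar_dvd (F := F)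
  have h1 := Fintype.one_lt_card (α := F)
  rcases h with h | h | h
  · refine not_reachable (· = 2) rfl (by decide) ?_
    rintro _ q hp hq - rfl g e
    have := dvd_of_psl2 hp hq e
    rw [h] at h0
    rw [show Nat.gcd 2 (Fintype.card F - 1) = 1 from (Nat.coprime_two_left.2
      (Nat.odd_iff.2 (by omega))), Nat.div_one, Nat.div_one] at this
    have := this.imp (Dvd.intro _ rfl).trans (Dvd.intro _ rfl).trans
    omega
  · refine fun e => not_reachable (· = 3) rfl (by decide) ?_ e.symm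
    rintro _ q hp hq - rfl g e
    have h2 := (dvd_of_psl2 hp hq e).imp (Dvd.intro _ rfl).trans (Dvd.intro _ rfl).trans
    have h3 := Nat.gcd_dvd_right 2 (Fintype.card F - 1)
    rw [h] at h0
    rcases (Nat.dvd_prime Nat.prime_two).1 (Nat.gcd_dvd_left 2 (Fintype.card F - 1)) with e' | e' <;>
      rw [e'] at h2 h3 <;> omega
  have e2 : Nat.gcd 2 (Fintype.card F - 1) = 2 := Nat.gcd_eq_left (by omega)
  have key : ∀ p : ℕ, p.Prime → p ∣ (Fintype.card F - 1) / 2 → ¬ p ∣ (Fintype.card F + 1) / 2 :=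
    fun p hp a b => hp.not_dvd_one ((Nat.dvd_add_right a).1
      (by rwa [show (Fintype.card F - 1) / 2 + 1 = (Fintype.card F + 1) / 2 by omega]))
  rcases h with h | h
  · refine not_reachable (· ∣ (Fintype.card F - 1) / 2) (by omega) (by omega)
      fun p q hp hq _ a g e => ?_
    exact (e2 ▸ dvd_of_psl2 hp hq e).elim (Dvd.intro_left _ rfl).trans
      fun b => absurd ((Dvd.intro _ rfl).trans b) (key p hp a)
  · refine not_reachable (· ∣ (Fintype.card F + 1) / 2) (by omega) (by omega)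
      fun p q hp hq _ a g e => ?_
    exact (e2 ▸ dvd_of_psl2 hp hq e).elim
      (fun b => absurd a (key p hp ((Dvd.intro _ rfl).trans b))) (Dvd.intro_left _ rfl).trans

theorem not_reachable_l34 (hF : Fintype.card F = 4) :
    ¬ (PrG (ProjectiveSpecialLinearGroup (Fin 3) F)).Reachable 2 3 := by
  refine not_reachable (· = 2) rfl (by decide) ?_
  rintro _ q - hq h rfl g e
  obtain ⟨f⟩ := Class.nonempty_ringEquiv_GF4 hF
  obtain ⟨n, hn, h1⟩ := Agent.S0819.exists_pow_eq_one (Class.pslEquiv (Fin 3) f g)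
  rw [← orderOf_dvd_iff_pow_eq_one, MulEquiv.orderOf_eq, e] at h1
  have h2 := (Dvd.intro _ rfl).trans h1
  simp only [List.mem_cons, List.not_mem_nil, or_false] at hn
  obtain rfl : n = 12 := by omega
  have := Nat.le_of_dvd (by decide) h1
  have := hq.two_le
  have := AutL34.orderOf_ne_six hF g
  have : q ≤ 6 := by omega
  interval_cases q <;> first | omega | exact absurd hq (by decide)

end Fields

theorem graph_of_main {G : Type u} [Group G] [Finite G] [IsSimpleGroup G] (hM : Main.{u})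
    (hG : ¬ IsMulCommutative G) (h3 : 3 ∣ Nat.card G) :
    ¬ (SimpleGraph.fromRel (fun p q : ℕ => p.Prime ∧ q.Prime ∧ ∃ g : G, orderOf g = p * q)).Reachable 2 3 ↔
      ∃ (F : Type) (_ : Field F) (_ : Fintype F),
        (((ringChar F = 2 ∧ 4 ≤ Fintype.card F) ∨ (ringChar F = 3 ∧ 9 ≤ Fintype.card F) ∨
            (Fintype.card F % 12 = 5 ∨ Fintype.card F % 12 = 7)) ∧
          Nonempty (G ≃* Matrix.ProjectiveSpecialLinearGroup (Fin 2) F)) ∨
        (Fintype.card F = 4 ∧ Nonempty (G ≃* Matrix.ProjectiveSpecialLinearGroup (Fin 3) F)) := by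
  change ¬ (PrG G).Reachable 2 3 ↔ _
  constructor
  · intro h
    rcases hM G hG (fun g e => h (SimpleGraph.Adj.reachable ((SimpleGraph.fromRel_adj _ _ _).2
      ⟨by decide, .inl ⟨Nat.prime_two, Nat.prime_three, g, e⟩⟩))) with ⟨F, i, j, h1, h2, ⟨f⟩⟩ |
      ⟨F, i, j, n, h1, -, h2, ⟨f⟩⟩ | ⟨F, i, j, n, h1, h4, h2, ⟨f⟩⟩ | h1
    · refine ⟨F, i, j, .inl ⟨?_, ⟨f⟩⟩⟩
      have := f.symm.isSimpleGroup
      have h4 : 4 ≤ Fintype.card F := four_le_of_simple fun e => hG
        ⟨⟨fun a b => f.injective (by rw [map_mul, map_mul, e.1.1])⟩⟩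
      obtain ⟨n, hp, hn⟩ := FiniteField.card F (ringChar F)
      have d : ∀ r : ℕ, r.Prime → r ∣ Fintype.card F → ringChar F = r := fun r hr e =>
        ((Nat.prime_dvd_prime_iff_eq hr hp).1 (hr.dvd_of_dvd_pow (hn ▸ e))).symm
      by_cases c2 : ringChar F = 2
      · exact .inl ⟨c2, h4⟩
      by_cases c3 : ringChar F = 3
      · have := c3 ▸ ringChar_dvd (F := F)
        have := mt (d 2 Nat.prime_two) c2
        exact .inr (.inl ⟨c3, by omega⟩)
      have := mt (d 2 Nat.prime_two) c2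
      have := mt (d 3 Nat.prime_three) c3
      exact .inr (.inr (by omega))
    · rcases h1.eq_or_lt with rfl | h1
      · exact ⟨F, i, j, .inr ⟨h2, ⟨f⟩⟩⟩
      · exact absurd (prG_congr f ▸ reachable_psl3 h1 h2) h
    · exact absurd (prG_congr f ▸ reachable_psu3 h1 (by omega) h2) h
    · exact absurd h3 (Gold.not_three_dvd_of_isoSuzuki h1)
  · rintro ⟨F, i, j, ⟨h, ⟨f⟩⟩ | ⟨h, ⟨f⟩⟩⟩ <;> rw [prG_congr f]
    · exact not_reachable_psl2 (h.imp And.left (.imp_left And.left))
    · exact not_reachable_l34 h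

end Cfsg.Lib.NoSix
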