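import Cfsg.Agent.NoSix.Defs
import Cfsg.Agent.FT.Final
import Cfsg.Agent.Trans.SylowIn

/-!
# Faithful representations in characteristic two with quadratic elements of order three
-/

set_option autoImplicit false

universe u v

namespace Cfsg.Lib.NoSix

open Subgroup Cfsg.Lib.Trans
open scoped commutatorElement IsMulCommutative

section CommRing
variable {S : Type*} [CommRing S]

theorem ring_step1 (two : (2 : S) = 0) {x x' z z' : S} (h1 : x * x' = 1) (h2 : z * z' = 1)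
    (e1 : x + x' = z * x + z' * x') (e2 : x + x' = z * z * x + z' * z' * x') : z ^ 4 = 1 := by
  grind

theorem ring_step2 (two : (2 : S) = 0) {u u' v v' : S} (h1 : u * u' = 1) (h2 : v * v' = 1)
    (e1 : v + v' = u + u') (e2 : u * v + u' * v' = u + u') : u ^ 12 = 1 := by
  grind

end CommRing

variable {Γ : Type u} [Group Γ] {R : Type v} [Ring R]

theorem exists_commRing (ρ : Γ →* R) (A : Subgroup Γ) (hA : ∀ a ∈ A, ∀ b ∈ A, a * b = b * a) :
    ∃ (S : Type v) (_ : CommRing S) (σ : A →* S) (ι : S →+* R), Function.Injective ι ∧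
      ∀ a : A, ι (σ a) = ρ a := by
  have : IsMulCommutative (Subring.closure (ρ '' A)) := Subring.isMulCommutative_closure (by
    rintro _ ⟨a, ha, rfl⟩ _ ⟨b, hb, rfl⟩
    rw [← map_mul, hA a ha b hb, map_mul])
  refine ⟨Subring.closure (ρ '' A), inferInstance,
    { toFun := fun a => ⟨ρ a, Subring.subset_closure ⟨a, a.2, rfl⟩⟩
      map_one' := Subtype.ext (by simp)
      map_mul' := fun a b => Subtype.ext (by simp) }, (Subring.closure (ρ '' A)).subtype,
    Subtype.val_injective, fun a => rfl⟩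

/-- A faithful representation in characteristic two in which the elements of order three are
quadratic. -/
structure QRep (ρ : Γ →* R) : Prop where
  two : (2 : R) = 0
  inj : Function.Injective ρ
  quad : ∀ y : Γ, y ^ 3 = 1 → y ≠ 1 → ρ y * ρ y = ρ y + 1

namespace QRep
variable {ρ : Γ →* R}

theorem add_self (h : QRep ρ) (r : R) : r + r = 0 := by rw [← two_mul, h.two, zero_mul]

theorem eq_of_add (h : QRep ρ) {r s : R} (e : r + s = 0) : r = s := by
  rw [← add_zero r, ← h.add_self s, ← add_assoc, e, zero_add]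

theorem map_inv (h : QRep ρ) {y : Γ} (h3 : y ^ 3 = 1) (h1 : y ≠ 1) : ρ y⁻¹ = ρ y + 1 := by
  rw [← h.quad y h3 h1, ← map_mul]
  congr 1
  rw [inv_eq_iff_mul_eq_one, ← h3, pow_three]

theorem b1 (h : QRep ρ) (y y' : Γ) (h3 : y ^ 3 = 1) (h3' : y' ^ 3 = 1) (h1 : y ≠ 1) (h1' : y' ≠ 1)
    (hc : Commute y y') : y' = y ∨ y' = y⁻¹ := by
  by_cases e : y * y' = 1
  · exact .inr (eq_inv_of_mul_eq_one_right e)
  left
  have q := h.quad (y * y') (by rw [hc.mul_pow, h3, h3', mul_one]) e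
  have e2 : ρ (y * y') * ρ (y * y') = (ρ y * ρ y) * (ρ y' * ρ y') := by
    simp only [← map_mul]
    congr 1
    rw [mul_assoc, ← mul_assoc y', ← hc.eq]; group
  rw [e2, h.quad y h3 h1, h.quad y' h3' h1', map_mul] at q
  refine h.inj (h.eq_of_add ?_)
  have : (ρ y + 1) * (ρ y' + 1) = ρ y * ρ y' + 1 + (ρ y' + ρ y) := by noncomm_ring
  rw [this] at q
  exact add_eq_left.1 q

theorem b3 (h : QRep ρ) (a b y g k : Γ) (ha : a * a = 1) (hb : b * b = 1) (hab : Commute a b)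
    (hy : y ^ 3 = 1) (e1 : y * a * y⁻¹ = b) (e2 : y * b * y⁻¹ = a * b) (hg : g ^ 3 = 1)
    (hg1 : g ≠ 1) (hag : a * g * a⁻¹ = g⁻¹) (hk : Commute k a) : Commute b (k * b * k⁻¹) := by
  have hy1 : y ≠ 1 := by
    rintro rfl
    simp only [one_mul, inv_one, mul_one] at e1 e2
    have : a = 1 := by simpa using e2.symm
    subst this
    simp only [one_mul, inv_one, mul_one] at hag
    apply hg1
    rw [← hg, pow_three, ← mul_assoc]
    nth_rw 1 [hag]
    nth_rw 3 [hag]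
    simp
    rw [← hag]
  have f1 : y * a = b * y := by rw [← e1]; group
  have f2 : y * b = a * b * y := by rw [← e2]; group
  have hya : (y * a) ^ 3 = 1 := by
    calc (y * a) ^ 3 = (y * a * y⁻¹) * (y * (y * a * y⁻¹) * y⁻¹) * y ^ 3 * a := by
          rw [pow_three, pow_three]; group
      _ = b * (a * b) * a := by rw [e1, e2, hy, mul_one]
      _ = 1 := by rw [hab.eq, ← mul_assoc, hb, one_mul, ha]
  have hya1 : y * a ≠ 1 := fun e => by
    have : y = a := by rw [← mul_one y, ← ha, ← mul_assoc, e, one_mul]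
    subst this
    rw [pow_three, ha, mul_one] at hy
    exact hy1 hy
  obtain ⟨A, hA⟩ : ∃ A, ρ a = A + 1 := ⟨ρ a + 1, by rw [add_assoc, h.add_self, add_zero]⟩
  obtain ⟨B, hB⟩ : ∃ B, ρ b = B + 1 := ⟨ρ b + 1, by rw [add_assoc, h.add_self, add_zero]⟩
  have qy := h.quad y hy hy1
  have g1 : ρ b * ρ y + ρ y = ρ (a * b) + 1 := by
    have q := h.quad _ hya hya1
    have : ρ (y * a) * ρ (y * a) = ρ b * (ρ y * ρ y) * ρ a := by
      nth_rw 1 [f1]
      simp only [map_mul, mul_assoc]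
    rw [this, qy, mul_add, add_mul, mul_one, mul_assoc, ← map_mul, f1, ← map_mul, ← mul_assoc, hb,
      one_mul, ← map_mul, ← hab.eq, map_mul ρ b y] at q
    refine h.eq_of_add ?_
    calc _ = (ρ y + ρ (a * b)) + (ρ b * ρ y + 1) := by abel
      _ = 0 := by rw [q, h.add_self]
  have g2 : ρ (a * b) * ρ y + ρ y = ρ a + 1 := by
    have q := congrArg (fun r => ρ y * r * ρ y⁻¹) g1
    simp only [mul_add, add_mul, mul_one, ← map_mul] at q
    rw [show y * (b * y) * y⁻¹ = a * b * y by rw [← f2]; group, mul_inv_cancel_right,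
      show y * (a * b) * y⁻¹ = a by
        rw [show y * (a * b) * y⁻¹ = (y * a * y⁻¹) * (y * b * y⁻¹) by group, e1, e2, hab.eq,
          ← mul_assoc, hb, one_mul], mul_inv_cancel, map_one, map_mul] at q
    exact q
  have AB : A * B = 0 := by
    have q1 : B * ρ y = ρ (a * b) + 1 := by
      rw [← g1, hB, add_mul, one_mul, add_assoc, h.add_self, add_zero]
    have q2 : (ρ (a * b) + 1) * ρ y = A := by
      rw [add_mul, one_mul, g2, hA, add_assoc, h.add_self, add_zero]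
    rw [← q1, mul_assoc, qy, mul_add, q1, mul_one, map_mul, hA, hB] at q2
    have : (A + 1) * (B + 1) + 1 + B = A * B + A + (B + B) + (1 + 1) := by noncomm_ring
    rw [this, h.add_self, h.add_self, add_zero, add_zero] at q2
    exact add_eq_right.1 q2
  have BA : B * A = 0 := by
    have q := congrArg ρ hab.eq
    rw [map_mul, map_mul, hA, hB] at q
    have : (A + 1) * (B + 1) = A * B + (A + B + 1) := by noncomm_ring
    have h2 : (B + 1) * (A + 1) = B * A + (A + B + 1) := by noncomm_ring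
    rw [this, h2, add_left_inj, AB] at q
    exact q.symm
  have kA : ρ k * A = A * ρ k := by
    have q := congrArg ρ hk.eq
    rwa [map_mul, map_mul, hA, mul_add, add_mul, mul_one, one_mul, add_left_inj] at q
  have kA' : ρ k⁻¹ * A = A * ρ k⁻¹ := by
    have q := congrArg ρ hk.inv_left.eq
    rwa [map_mul, map_mul, hA, mul_add, add_mul, mul_one, one_mul, add_left_inj] at q
  have one : A * ρ g + ρ g⁻¹ * A = 1 := by
    have q : ρ a * ρ g = ρ g⁻¹ * ρ a := by rw [← map_mul, ← map_mul, ← hag]; congr 1; group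
    rw [hA, add_mul, mul_add, one_mul, mul_one] at q
    refine h.eq_of_add ?_
    calc _ = (A * ρ g + ρ g) + (ρ g⁻¹ * A + (ρ g + 1)) - (ρ g + ρ g) := by abel
      _ = 0 := by rw [← h.map_inv hg hg1, q, h.add_self, h.add_self, sub_zero]
  set B' := ρ k * B * ρ k⁻¹ with hB'
  have AB' : A * B' = 0 := by rw [hB', ← mul_assoc, ← mul_assoc, ← kA, mul_assoc _ A, AB]; simp
  have B'A : B' * A = 0 := by rw [hB', mul_assoc, kA', ← mul_assoc, mul_assoc _ B, BA]; simp
  have BB' : B * B' = 0 := by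
    calc B * B' = B * (A * ρ g + ρ g⁻¹ * A) * B' := by rw [one, mul_one]
      _ = B * A * ρ g * B' + B * ρ g⁻¹ * (A * B') := by noncomm_ring
      _ = 0 := by rw [BA, AB']; simp
  have B'B : B' * B = 0 := by
    calc B' * B = B' * (A * ρ g + ρ g⁻¹ * A) * B := by rw [one, mul_one]
      _ = B' * A * ρ g * B + B' * ρ g⁻¹ * (A * B) := by noncomm_ring
      _ = 0 := by rw [B'A, AB]; simp
  have hb' : ρ (k * b * k⁻¹) = B' + 1 := by
    rw [map_mul, map_mul, hB, mul_add, add_mul, mul_one, ← map_mul, mul_inv_cancel, map_one]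
  refine h.inj ?_
  rw [map_mul, map_mul ρ _ b, hb', hB]
  calc (B + 1) * (B' + 1) = B * B' + (B + B' + 1) := by noncomm_ring
    _ = B' * B + (B + B' + 1) := by rw [BB', B'B]
    _ = _ := by noncomm_ring

/-- The trace of `a⁻¹ b` commutes with `a`. -/
theorem trace_comm (h : QRep ρ) {a b : Γ} (ha : a ^ 3 = 1) (ha1 : a ≠ 1) (hb : b ^ 3 = 1)
    (hb1 : b ≠ 1) : ρ a * (ρ (a⁻¹ * b) + ρ (a⁻¹ * b)⁻¹) = (ρ (a⁻¹ * b) + ρ (a⁻¹ * b)⁻¹) * ρ a := by
  rw [mul_inv_rev, inv_inv, map_mul, map_mul, h.map_inv ha ha1, h.map_inv hb hb1]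
  have q := h.quad a ha ha1
  generalize ρ a = A at q
  generalize ρ b = B
  have e1 : A * ((A + 1) * B + (B + 1) * A) = (A * A) * B + A * B + A * B * A + A * A := by
    noncomm_ring
  have e2 : ((A + 1) * B + (B + 1) * A) * A = A * B * A + B * A + B * (A * A) + A * A := by
    noncomm_ring
  rw [e1, e2, q]
  calc _ = (A * B + A * B) + B + A * B * A + (A + 1) := by noncomm_ring
    _ = (B * A + B * A) + B + A * B * A + (A + 1) := by rw [h.add_self, h.add_self]
    _ = _ := by noncomm_ring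

theorem eq_one_of_coprime {k : Γ} {m n : ℕ} (hm : k ^ m = 1) (hn : k ^ n = 1)
    (hc : m.Coprime n) : k = 1 :=
  orderOf_eq_one_iff.1 (Nat.eq_one_of_dvd_coprimes hc (orderOf_dvd_of_pow_eq_one hm)
    (orderOf_dvd_of_pow_eq_one hn))

/-- The key computation for `{2,3}'`-subgroups of class at most two. -/
theorem odd_step (h : QRep ρ) {y b : Γ} (hy : y ^ 3 = 1) (hy1 : y ≠ 1) (hb : b ^ 3 = 1)
    (hb1 : b ≠ 1) {m : ℕ} (hm : m.Coprime 6) (hk : (y⁻¹ * b) ^ m = 1)
    (hz : ⁅y⁻¹ * b, y * (y⁻¹ * b) * y⁻¹⁆ ^ m = 1)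
    (c0 : Commute ⁅y⁻¹ * b, y * (y⁻¹ * b) * y⁻¹⁆ (y⁻¹ * b))
    (c1 : Commute ⁅y⁻¹ * b, y * (y⁻¹ * b) * y⁻¹⁆ (y * (y⁻¹ * b) * y⁻¹)) : y⁻¹ * b = 1 := by
  have t := h.trace_comm hy hy1 hb hb1
  have hyk : (y * (y⁻¹ * b)) ^ 3 = 1 := by rwa [mul_inv_cancel_left]
  generalize y⁻¹ * b = k at *
  have tr : ∀ g x : Γ, ρ g * (ρ x + ρ x⁻¹) * ρ g⁻¹ = ρ (g * x * g⁻¹) + ρ (g * x * g⁻¹)⁻¹ := by
    intro g x
    rw [mul_add, add_mul, ← map_mul, ← map_mul, ← map_mul, ← map_mul]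
    congr 2
    group
  have fix : ∀ (g : Γ) (c : R), ρ g * c = c * ρ g → ρ g * c * ρ g⁻¹ = c := fun g c e => by
    rw [e, mul_assoc, ← map_mul, mul_inv_cancel, map_one, mul_one]
  have t1 : ρ (y * k * y⁻¹) + ρ (y * k * y⁻¹)⁻¹ = ρ k + ρ k⁻¹ := by rw [← tr, fix _ _ t]
  have t2 : ρ (y * (y * k * y⁻¹) * y⁻¹) + ρ (y * (y * k * y⁻¹) * y⁻¹)⁻¹ = ρ k + ρ k⁻¹ := by
    rw [← tr, t1, fix _ _ t]
  have e3 : (y * (y * k * y⁻¹) * y⁻¹) = (k * (y * k * y⁻¹))⁻¹ := by
    rw [eq_inv_iff_mul_eq_one]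
    calc _ = y * (y * k * y⁻¹ * y⁻¹ * y⁻¹ * (y * k) * (y * k)) * y⁻¹ := by group
      _ = y * (y * k * (y ^ 3)⁻¹ * (y * k) * (y * k)) * y⁻¹ := by rw [pow_three]; group
      _ = 1 := by rw [hy, inv_one, mul_one, ← pow_three', hyk]; group
  rw [e3, inv_inv] at t2
  generalize y * k * y⁻¹ = k₁ at *
  have kc : ρ k * (ρ k + ρ k⁻¹) = (ρ k + ρ k⁻¹) * ρ k := by
    rw [mul_add, add_mul, ← map_mul, ← map_mul, ← map_mul, mul_inv_cancel, inv_mul_cancel]
  have s1 : k * k₁ * k⁻¹ = ⁅k, k₁⁆ * k₁ := by rw [commutatorElement_def]; group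
  generalize hζ : ⁅k, k₁⁆ = ζ at *
  have u1 : ρ k₁ + ρ k₁⁻¹ = ρ (ζ * k₁) + ρ (ζ * k₁)⁻¹ := by rw [← s1, ← tr, t1, fix _ _ kc]
  have u2 : ρ k₁ + ρ k₁⁻¹ = ρ (ζ * ζ * k₁) + ρ (ζ * ζ * k₁)⁻¹ := by
    have : k * (ζ * k₁) * k⁻¹ = ζ * ζ * k₁ := by
      rw [← mul_assoc, ← c0.eq, mul_assoc ζ, mul_assoc ζ, s1, mul_assoc]
    rw [← this, ← tr, ← u1, t1, fix _ _ kc]
  have comm : ∀ {p q : Γ}, Commute p q → ∀ a ∈ closure ({p, q} : Set Γ),
      ∀ b ∈ closure ({p, q} : Set Γ), a * b = b * a := fun {p q} hc a ha b hb => by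
    have := isMulCommutative_closure (k := ({p, q} : Set Γ)) (by
      rintro _ (rfl | rfl) _ (rfl | rfl)
      exacts [rfl, hc.eq, hc.eq.symm, rfl])
    exact setLike_mul_comm ha hb
  have hζ1 : ζ = 1 := by
    obtain ⟨S, _, σ, ι, hι, hσ⟩ := exists_commRing ρ _ (comm c1)
    let z : closure ({ζ, k₁} : Set Γ) := ⟨ζ, subset_closure (by simp)⟩
    let x : closure ({ζ, k₁} : Set Γ) := ⟨k₁, subset_closure (by simp)⟩
    have := ring_step1 (S := S) (hι (by rw [map_ofNat, map_zero, h.two])) (x := σ x) (x' := σ x⁻¹)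
      (z := σ z) (z' := σ z⁻¹) (by rw [← map_mul, mul_inv_cancel, map_one])
      (by rw [← map_mul, mul_inv_cancel, map_one])
      (hι (by
        simp only [← map_mul, map_add, hσ]
        rw [show ((z⁻¹ * x⁻¹ : closure ({ζ, k₁} : Set Γ)) : Γ) = (ζ * k₁)⁻¹ by
          rw [c1.eq, mul_inv_rev]; rfl]
        exact u1))
      (hι (by
        simp only [← map_mul, map_add, hσ]
        rw [show ((z⁻¹ * z⁻¹ * x⁻¹ : closure ({ζ, k₁} : Set Γ)) : Γ) = (ζ * ζ * k₁)⁻¹ by
          rw [(c1.mul_left c1).eq, mul_inv_rev, mul_inv_rev]; rfl]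
        exact u2))
    have h4 := congrArg ι this
    rw [← map_pow, hσ, map_one, ← ρ.map_one] at h4
    exact eq_one_of_coprime hz (h.inj h4)
      (Nat.Coprime.pow_right 2 (hm.coprime_dvd_right (by norm_num : 2 ∣ 6)))
  have c2 : Commute k k₁ := commutatorElement_eq_one_iff_commute.1 (hζ.trans hζ1)
  obtain ⟨S, _, σ, ι, hι, hσ⟩ := exists_commRing ρ _ (comm c2)
  let u : closure ({k, k₁} : Set Γ) := ⟨k, subset_closure (by simp)⟩
  let v : closure ({k, k₁} : Set Γ) := ⟨k₁, subset_closure (by simp)⟩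
  have := ring_step2 (S := S) (hι (by rw [map_ofNat, map_zero, h.two])) (u := σ u) (u' := σ u⁻¹)
    (v := σ v) (v' := σ v⁻¹) (by rw [← map_mul, mul_inv_cancel, map_one])
    (by rw [← map_mul, mul_inv_cancel, map_one])
    (hι (by simp only [map_add, hσ]; exact t1))
    (hι (by
      simp only [← map_mul, map_add, hσ]
      rw [show ((u⁻¹ * v⁻¹ : closure ({k, k₁} : Set Γ)) : Γ) = (k * k₁)⁻¹ by
        rw [c2.eq, mul_inv_rev]; rfl, add_comm]
      exact t2))
  have h4 := congrArg ι this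
  rw [← map_pow, hσ, map_one, ← ρ.map_one] at h4
  exact eq_one_of_coprime hk (h.inj h4)
    (Nat.Coprime.coprime_dvd_right (by norm_num : 12 ∣ 6 ^ 2) (hm.pow_right 2))

theorem b2 [Finite Γ] (h : QRep ρ) (T : Subgroup Γ) (y : Γ) (hT : (Nat.card T).Coprime 6)
    (hy : y ^ 3 = 1) (hn : y ∈ normalizer (T : Set Γ)) : ∀ r ∈ T, Commute y r := by
  by_cases hy1 : y = 1
  · subst hy1; exact fun r _ => Commute.one_left r
  induction hc : Nat.card T using Nat.strong_induction_on generalizing T with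
  | _ n ih =>
  by_cases h1 : T = ⊥
  · subst h1; intro r hr; rw [mem_bot.1 hr]; exact Commute.one_right y
  have hodd : Odd (Nat.card T) :=
    Nat.coprime_two_right.1 (hT.coprime_dvd_right (by norm_num : 2 ∣ 6))
  have := FT.odd_order_solvable hodd
  have hle : ⁅T, T⁆ ≤ T := commutator_le_self T
  have hlt : ⁅T, T⁆ < T := by
    have := (nontrivial_iff_ne_bot T).2 h1
    have h2 := (map_lt_map_iff_of_injective T.subtype_injective).2
      (Group.IsSolvable.commutator_lt_top_of_nontrivial T)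
    rwa [commutator_def, map_commutator, ← MonoidHom.range_eq_map, range_subtype] at h2
  have hy' : y ∈ normalizer ((⁅T, T⁆ : Subgroup Γ) : Set Γ) :=
    normalizer_le_normalizer_commutator T T ⟨hn, hn⟩
  have ih' := ih _ (hc ▸ card_lt_of_lt hlt) ⁅T, T⁆
    (hT.coprime_dvd_left (card_dvd_of_le hle)) hy' rfl
  intro g hg
  have cj : ∀ r ∈ T, ∀ t ∈ ⁅T, T⁆, Commute (r * y * r⁻¹) t := fun r hr t ht => by
    have : r⁻¹ * t * r ∈ ⁅T, T⁆ := mem_normalizer_conj'
      (normalizer_le_normalizer_commutator T T ⟨le_normalizer hr, le_normalizer hr⟩) ht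
    have e := (ih' _ this).eq
    change r * y * r⁻¹ * t = t * (r * y * r⁻¹)
    calc _ = r * (y * (r⁻¹ * t * r)) * r⁻¹ := by group
      _ = _ := by rw [e]; group
  have k0 : y⁻¹ * (g * y * g⁻¹) ∈ T := by
    have := (mem_normalizer_iff''.1 hn g).1 hg
    rw [show y⁻¹ * (g * y * g⁻¹) = y⁻¹ * g * y * g⁻¹ by group]
    exact T.mul_mem this (T.inv_mem hg)
  have k1 : y * (y⁻¹ * (g * y * g⁻¹)) * y⁻¹ ∈ T := (mem_normalizer_iff.1 hn _).1 k0
  have hz := commutator_mem_commutator k0 k1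
  have := h.odd_step hy hy1 (b := g * y * g⁻¹) (by rw [conj_pow, hy]; group)
    (fun e => hy1 (by simpa [mul_inv_eq_one] using e)) hT
    (congrArg Subtype.val (pow_card_eq_one' (x := (⟨_, k0⟩ : T))))
    (congrArg Subtype.val (pow_card_eq_one' (x := (⟨_, hle hz⟩ : T))))
    ((ih' _ hz).inv_left.mul_left (cj g hg _ hz)).symm
    (((ih' _ hz).mul_left ((ih' _ hz).inv_left.mul_left (cj g hg _ hz))).mul_left
      (ih' _ hz).inv_left).symm
  rw [inv_mul_eq_one, eq_mul_inv_iff_mul_eq] at this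
  exact this

theorem quadProp [Finite Γ] (h : QRep ρ) : Quad Γ := ⟨h.b1, h.b2, h.b3⟩

end QRep

end Cfsg.Lib.NoSix
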