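import Cfsg.Agent.NoSix.ThmB

/-!
# The choice of the `2`-local subgroup
-/

set_option autoImplicit false

universe u

namespace Cfsg.Lib.NoSix

open Subgroup Cfsg.Lib.Trans

variable {G : Type u} [Group G]

/-- `H` contains a dihedral group of order six. -/
def D6 (H : Subgroup G) : Prop :=
  ∃ y ∈ H, ∃ s ∈ H, y ^ 3 = 1 ∧ y ≠ 1 ∧ s * s = 1 ∧ s * y * s⁻¹ = y⁻¹

theorem eq_one_of_eq_inv {y : G} (h3 : y ^ 3 = 1) (h : y = y⁻¹) : y = 1 := by
  rwa [pow_three, mul_eq_one_iff_eq_inv.2 h, mul_one] at h3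

theorem exists_pow_three_of_mem [Finite G] {R : Subgroup G} (hR : IsPGroup 3 R) {w : G}
    (hw : w ∈ R) (h1 : w ≠ 1) : ∃ m : ℕ, w ^ m ≠ 1 ∧ (w ^ m) ^ 3 = 1 := by
  obtain ⟨k, hk⟩ := hR ⟨w, hw⟩
  obtain ⟨j, -, hj⟩ := (Nat.dvd_prime_pow Nat.prime_three).1
    (orderOf_dvd_of_pow_eq_one (congrArg Subtype.val hk : w ^ 3 ^ k = 1))
  refine exists_pow_three ?_
  rw [hj]
  refine dvd_pow_self 3 fun e => h1 ?_
  rwa [e, pow_zero, orderOf_eq_one_iff] at hj

theorem d6_of_section [Finite G] (h6 : N6 G) (K : Subgroup G) [hK : K.Normal] (H : Subgroup G)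
    {y s : G} (hy : y ∈ H) (hs : s ∈ H) (hyK : y ∉ K) (hy3 : y ^ 3 ∈ K)
    (hsy : s * y * s⁻¹ * y ∈ K) : D6 H := by
  have := Fact.mk Nat.prime_three
  let π := QuotientGroup.mk' K
  have one : ∀ {x}, x ∈ K → π x = 1 := fun hx => (QuotientGroup.eq_one_iff _).2 hx
  have y1 : π y ≠ 1 := fun e => hyK ((QuotientGroup.eq_one_iff _).1 e)
  have y3 : π y ^ 3 = 1 := by rw [← map_pow, one hy3]
  have sy : π s * π y * (π s)⁻¹ = (π y)⁻¹ := by
    rw [eq_inv_iff_mul_eq_one, ← map_inv, ← map_mul, ← map_mul, ← map_mul, one hsy]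
  let L : Subgroup G := H ⊓ (zpowers (π y)).comap π
  have hyL : y ∈ L := ⟨hy, mem_zpowers (π y)⟩
  have hsL : s ∈ normalizer (L : Set G) := mem_normalizer_of_cj_le (cj_le_iff.2 fun t ht =>
    ⟨H.mul_mem (H.mul_mem hs ht.1) (H.inv_mem hs), by
      obtain ⟨j, hj⟩ := ht.2
      refine ⟨-j, ?_⟩
      change π y ^ (-j) = π (s * t * s⁻¹)
      rw [map_mul, map_mul, map_inv, ← hj, ← conj_zpow, sy, inv_zpow']⟩)
  obtain ⟨R, hR⟩ := exists_isSylowIn (p := 3) L
  obtain ⟨l, hl, n, hn, rfl⟩ := hR.frattini hsL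
  have hnH : n ∈ H := (H.mul_mem_cancel_left hl.1).1 hs
  have ny : π n * π y * (π n)⁻¹ = (π y)⁻¹ := by
    obtain ⟨j, hj⟩ := hl.2
    have hc : Commute (π l) (π y) := by
      rw [← hj]; exact (Commute.refl _).zpow_left j
    rw [map_mul] at sy
    calc _ = (π l)⁻¹ * (π l * π n * π y * (π l * π n)⁻¹) * π l := by group
      _ = _ := by rw [sy, mul_assoc, ← hc.inv_right.eq, inv_mul_cancel_left]
  have hev : ¬ Odd (orderOf n) := by
    rintro ⟨j, hj⟩
    have c2 : Commute (π n * π n) (π y) := by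
      refine mul_inv_eq_iff_eq_mul.1 ?_
      calc _ = π n * (π n * π y * (π n)⁻¹) * (π n)⁻¹ := by group
        _ = π n * (π y)⁻¹ * (π n)⁻¹ := by rw [ny]
        _ = (π n * π y * (π n)⁻¹)⁻¹ := by group
        _ = _ := by rw [ny, inv_inv]
    have c1 : Commute (π n) (π y) := by
      have e : π n = ((π n * π n) ^ j)⁻¹ := by
        rw [eq_inv_iff_mul_eq_one, ← sq, ← pow_mul, ← pow_succ', ← hj, ← map_pow,
          pow_orderOf_eq_one, map_one]
      rw [e]; exact (c2.pow_left j).inv_left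
    rw [c1.eq, mul_inv_cancel_right] at ny
    exact y1 (eq_one_of_eq_inv y3 ny)
  obtain ⟨k, hk⟩ := even_iff_two_dvd.1 (Nat.not_odd_iff_even.1 hev)
  have h0 := orderOf_pos n
  have t1 : n ^ k ≠ 1 := pow_ne_one_of_lt_orderOf (by omega) (by omega)
  have t2 : n ^ k * n ^ k = 1 := by rw [← pow_add, ← two_mul, ← hk, pow_orderOf_eq_one]
  have tH := H.pow_mem hnH k
  have tR := pow_mem hn k
  generalize n ^ k = t at *
  have hR1 : R ≠ ⊥ := fun e => hR.eq_bot_iff.1 e (by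
    rw [← orderOf_eq_three y3 y1]
    exact (orderOf_map_dvd π y).trans (orderOf_dvd_natCard L hyL))
  obtain ⟨⟨r, hr⟩, r1⟩ := ne_bot_iff_exists_ne_one.1 hR1
  obtain ⟨m, r2, r3⟩ := exists_pow_three_of_mem hR.isPGroup hr fun e => r1 (Subtype.ext e)
  have hr' := R.pow_mem hr m
  generalize r ^ m = r at *
  have hw : r⁻¹ * (t * r * t⁻¹) ∈ R := R.mul_mem (R.inv_mem hr') (mem_normalizer_conj tR hr')
  obtain ⟨m, w2, w3⟩ := exists_pow_three_of_mem hR.isPGroup hw fun e =>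
    h6.not_commute t2 t1 r3 r2 (mul_inv_eq_iff_eq_mul.1 (inv_mul_eq_one.1 e).symm)
  refine ⟨_, (hR.le (R.pow_mem hw m)).1, t, tH, w3, w2, t2, ?_⟩
  rw [← conj_pow, ← inv_pow]
  congr 1
  calc _ = t * r⁻¹ * t⁻¹ * (t * t) * r * (t * t)⁻¹ := by group
    _ = _ := by rw [t2]; group

theorem d6_normalizer [Finite G] (h6 : N6 G) (K : Subgroup G) [hK : K.Normal] {Q : Subgroup G}
    (hQ : IsSylowIn 2 Q K) {y s : G} (hyK : y ∉ K) (hy3 : y ^ 3 ∈ K) (hsy : s * y * s⁻¹ * y ∈ K) :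
    D6 (normalizer (Q : Set G)) := by
  have top : ∀ g : G, g ∈ normalizer (K : Set G) := fun g => by
    rw [normalizer_eq_top]; exact mem_top g
  obtain ⟨a, ha, y, hy, rfl⟩ := hQ.frattini (top y)
  obtain ⟨b, hb, s, hs, rfl⟩ := hQ.frattini (top s)
  rw [← QuotientGroup.eq_one_iff] at ha hb hy3 hsy
  refine d6_of_section h6 K _ hy hs (fun e => hyK (K.mul_mem ((QuotientGroup.eq_one_iff _).1 ha) e))
    ((QuotientGroup.eq_one_iff _).1 ?_) ((QuotientGroup.eq_one_iff _).1 ?_)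
  · simpa [ha] using hy3
  · simpa [ha, hb] using hsy

theorem D6.map {H : Subgroup G} {Q : Subgroup H} (h : D6 (normalizer (Q : Set H))) :
    D6 (normalizer (Q.map H.subtype : Set G)) := by
  obtain ⟨y, hy, s, hs, h1, h2, h3, h4⟩ := h
  exact ⟨y, le_normalizer_map _ (mem_map_of_mem _ hy), s, le_normalizer_map _ (mem_map_of_mem _ hs),
    congrArg Subtype.val h1, fun e => h2 (Subtype.ext e), congrArg Subtype.val h3,
    congrArg Subtype.val h4⟩

/-- The four-group in `S₄`. -/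
def V4 : Subgroup (Equiv.Perm (Fin 4)) where
  carrier := {σ | σ * σ = 1 ∧ Equiv.Perm.sign σ = 1}
  one_mem' := by simp
  mul_mem' := fun {a b} => by
    revert a b
    simp only [Set.mem_ofPred_eq]
    decide +kernel
  inv_mem' := fun {a} => by
    revert a
    simp only [Set.mem_ofPred_eq]
    decide +kernel

theorem mem_V4 {σ : Equiv.Perm (Fin 4)} : σ ∈ V4 ↔ σ * σ = 1 ∧ Equiv.Perm.sign σ = 1 := Iff.rfl

instance V4_normal : V4.Normal := ⟨by simp only [mem_V4]; decide +kernel⟩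

theorem exists_d6 [Finite G] (h6 : N6 G) (h : Involves (Equiv.Perm (Fin 4)) G) :
    ∃ P : Subgroup G, IsPGroup 2 P ∧ P ≠ ⊥ ∧ D6 (normalizer (P : Set G)) := by
  obtain ⟨K, R, _, ⟨e⟩⟩ := h
  let f : K →* Equiv.Perm (Fin 4) := e.toMonoidHom.comp (QuotientGroup.mk' _)
  have hf : Function.Surjective f := e.surjective.comp (QuotientGroup.mk'_surjective _)
  obtain ⟨Q, hQ⟩ := exists_isSylowIn (p := 2) (V4.comap f)
  obtain ⟨y, hy⟩ := hf (Equiv.swap 0 1 * Equiv.swap 1 2)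
  obtain ⟨s, hs⟩ := hf (Equiv.swap 0 1)
  obtain ⟨v, hv⟩ := hf (Equiv.swap 0 1 * Equiv.swap 2 3)
  refine ⟨Q.map K.subtype, hQ.isPGroup.map _, fun h1 => ?_,
    (d6_normalizer (h6.subgroup K) _ hQ (y := y) (s := s) ?_ ?_ ?_).map⟩
  · refine hQ.eq_bot_iff.1 ((map_eq_bot_iff_of_injective _ K.subtype_injective).1 h1) ?_
    have h2 : orderOf (f v) = 2 := by rw [hv]; exact orderOf_eq_two (by decide) (by decide)
    rw [← h2]
    exact (orderOf_map_dvd f v).trans (orderOf_dvd_natCard _ (by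
      rw [mem_comap, hv, mem_V4]; decide))
  · rw [mem_comap, hy, mem_V4]; decide
  · rw [mem_comap, map_pow, hy, mem_V4]; decide
  · rw [mem_comap, map_mul, map_mul, map_mul, map_inv, hy, hs, mem_V4]; decide

theorem CaseI.of_subgroupOf {P T : Subgroup G} (hT : T ≤ normalizer (P : Set G))
    (h : CaseI (P.subgroupOf (normalizer (P : Set G))) (T.subgroupOf (normalizer (P : Set G)))) :
    CaseI P T where
  idx a ha b hb := h.idx ⟨a, hT ha⟩ ha ⟨b, hT hb⟩ hb
  inv t ht htP htt := by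
    obtain ⟨y, -, h1, h2, h3⟩ := h.inv ⟨t, hT ht⟩ ht htP (Subtype.ext htt)
    exact ⟨y, y.2, congrArg Subtype.val h1, fun e => h2 (Subtype.ext e), congrArg Subtype.val h3⟩
  ex := by
    obtain ⟨y, -, h1, h2⟩ := h.ex
    exact ⟨y, y.2, congrArg Subtype.val h1, fun e => h2 (Subtype.ext e)⟩
  cent t ht htP := by
    obtain ⟨v, hv, h1, h2, h3⟩ := h.cent ⟨t, hT ht⟩ ht htP
    exact ⟨v, hv, congrArg Subtype.val h1,
      fun p hp => congrArg Subtype.val (h2 ⟨p, le_normalizer hp⟩ hp).eq,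
      fun e => h3 (Subtype.ext e.eq)⟩
  ne hle := h.ne fun _ hx => hle hx

theorem CaseII.of_subgroupOf {P T : Subgroup G} (hT : T ≤ normalizer (P : Set G))
    (h : CaseII (P.subgroupOf (normalizer (P : Set G))) (T.subgroupOf (normalizer (P : Set G)))) :
    CaseII P T where
  comm a ha b hb :=
    congrArg Subtype.val (h.comm ⟨a, le_normalizer ha⟩ ha ⟨b, le_normalizer hb⟩ hb).eq
  sq a ha := congrArg Subtype.val (h.sq ⟨a, le_normalizer ha⟩ ha)
  sqT t ht := h.sqT ⟨t, hT ht⟩ ht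
  fix t ht htP v hv hc t' ht' := congrArg Subtype.val (h.fix ⟨t, hT ht⟩ ht htP
    ⟨v, le_normalizer hv⟩ hv (Subtype.ext hc.eq) ⟨t', hT ht'⟩ ht').eq
  free t ht htP v hv hc := by
    obtain ⟨w, hw, e⟩ := h.free ⟨t, hT ht⟩ ht htP ⟨v, le_normalizer hv⟩ hv (Subtype.ext hc.eq)
    exact ⟨w, hw, congrArg Subtype.val e⟩
  idx := by
    have := h.idx
    rwa [relIndex_subgroupOf hT] at this

theorem exists_setup (kb : KB.{u}) [Finite G] [IsSimpleGroup G] (h6 : N6 G)
    (h : Involves (Equiv.Perm (Fin 4)) G) (ih : IH.{u} (Nat.card G)) :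
    ∃ (S : Sylow 2 G) (P : Subgroup G), P ≤ S ∧ P ≠ ⊥ ∧
      (CaseI P (S ⊓ normalizer (P : Set G)) ∨ CaseII P (S ⊓ normalizer (P : Set G))) := by
  obtain ⟨P, ⟨hP, hP1, hD⟩, hmax⟩ := Set.exists_max_image
    {P : Subgroup G | IsPGroup 2 P ∧ P ≠ ⊥ ∧ D6 (normalizer (P : Set G))} (fun P => Nat.card P)
    (Set.toFinite _) (exists_d6 h6 h)
  obtain ⟨T, hT, hPT⟩ := exists_isSylowIn_ge (p := 2) hP (le_normalizer (H := P))
  obtain ⟨S, hS⟩ := hT.exists_sylow_inf
  obtain ⟨y, hy, s, hs, y3, y1, s2, sy⟩ := hD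
  have hN : normalizer (P : Set G) ≠ ⊤ := fun e => by
    rcases (normalizer_eq_top_iff.1 e).eq_bot_or_eq_top with h1 | h1
    · exact hP1 h1
    · exact y1 (h6.eq_one_of_mem hP (h1 ▸ mem_top y) y3 y1 (Commute.refl y))
  have hP' := isPGroup_subgroupOf hP (normalizer (P : Set G))
  have hcard : Nat.card (P.subgroupOf (normalizer (P : Set G))) = Nat.card P :=
    Nat.card_congr (subgroupOfEquivOfLe le_normalizer).toEquiv
  have hL : Loc (P.subgroupOf (normalizer (P : Set G))) (T.subgroupOf (normalizer (P : Set G))) := by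
    refine ⟨h6.subgroup _, hP', fun e => hP1 (by rwa [← card_eq_one, hcard, card_eq_one] at e),
      hT.subgroupOf_top, fun K hK h3 => ?_, ⟨y, hy⟩, ⟨s, hs⟩, Subtype.ext y3,
      fun e => y1 (congrArg Subtype.val e), Subtype.ext s2, Subtype.ext sy⟩
    have hTP : P.subgroupOf (normalizer (P : Set G)) ≤ T.subgroupOf _ := fun _ hx => hPT hx
    have hT' := hT.subgroupOf_top
    generalize T.subgroupOf (normalizer (P : Set G)) = T' at *
    have hPn : (P.subgroupOf (normalizer (P : Set G))).Normal := inferInstance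
    generalize P.subgroupOf (normalizer (P : Set G)) = P' at *
    have hQ := hT'.inf_normal_of_le (N := P' ⊔ K) (normalizer_eq_top _).ge le_top
    have h3' : (Nat.card ↥(P' ⊔ K)).Coprime 3 := by
      rw [← card_mul_relIndex (le_sup_right : K ≤ P' ⊔ K), relIndex_sup_right]
      refine Nat.Coprime.mul_left h3 (Nat.Coprime.coprime_dvd_left (relIndex_dvd_card K P') ?_)
      obtain ⟨n, hn⟩ := IsPGroup.iff_card.1 hP'
      rw [hn]
      exact Nat.Coprime.pow_left n (by decide)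
    have hD := (d6_normalizer (h6.subgroup _) _ hQ (y := ⟨y, hy⟩) (s := ⟨s, hs⟩)
      (fun e => y1 (QRep.eq_one_of_coprime (congrArg (fun x : ↥(P' ⊔ K) => ((x : normalizer
        (P : Set G)) : G)) (pow_card_eq_one' (x := (⟨_, e⟩ : ↥(P' ⊔ K))))) y3 h3'))
      (by rw [show (⟨y, hy⟩ : normalizer (P : Set G)) ^ 3 = 1 from Subtype.ext y3]; exact one_mem _)
      (by
        rw [show (⟨s, hs⟩ * ⟨y, hy⟩ * ⟨s, hs⟩⁻¹ : normalizer (P : Set G)) = ⟨y, hy⟩⁻¹ from
          Subtype.ext sy, inv_mul_cancel]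
        exact one_mem _)).map
    have hle : P' ≤ T' ⊓ (P' ⊔ K) := le_inf hTP le_sup_left
    have := hmax _ ⟨hQ.isPGroup.map _, fun e => hP1 (by
      rw [map_eq_bot_iff_of_injective _ (subtype_injective _)] at e
      rw [← card_eq_one, ← hcard, card_eq_one, ← le_bot_iff, ← e]
      exact hle), hD⟩
    simp only [card_map_of_injective (subtype_injective _), ← hcard] at this
    rw [eq_of_le_of_card_ge hle this]
    exact inf_le_inf_left _ le_sup_right
  refine ⟨S, P, hPT.trans (hS ▸ inf_le_left), hP1, ?_⟩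
  rw [hS]
  exact (hL.thmB kb (ih.mono (by
    have := card_lt_of_lt (lt_top_iff_ne_top.2 hN)
    rwa [card_top] at this))).imp (CaseI.of_subgroupOf hT.le) (CaseII.of_subgroupOf hT.le)

end Cfsg.Lib.NoSix
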