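import Cfsg.Agent.NoSix.Gamma

/-!
# The structure of the chosen `2`-local subgroup
-/

set_option autoImplicit false

universe u

namespace Cfsg.Lib.NoSix

open Subgroup Cfsg.Lib.Trans Cfsg.Lib.CITCor Cfsg.Lib.Class Cfsg.Lib.Rank2 Cfsg.Lib.Known.GL2
open scoped commutatorElement MatrixGroups IsMulCommutative

section SL2
variable {F : Type*} [Field F]

theorem sl2_entries (h2 : (2 : F) = 0) {g : SL(2, F)} (hg : g * g = 1) :
    g 1 1 = g 0 0 ∧ (g 0 0 + 1) * (g 0 0 + 1) = g 0 1 * g 1 0 := by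
  have t : Matrix.trace ((slLin F).ρ g) = 0 :=
    mul_self_eq_neg_one_iff_SL.1 (by rw [hg, neg_one_eq_one_SL.2 h2])
  have t' : g 0 0 + g 1 1 = 0 := by rw [← t, Matrix.trace_fin_two]; rfl
  have d : g 0 0 * g 1 1 - g 0 1 * g 1 0 = 1 := by rw [← Matrix.det_fin_two]; exact g.2
  constructor <;> grind

theorem sl2_sq_of_two_pow (h2 : (2 : F) = 0) {g : SL(2, F)} {k : ℕ} (hg : g ^ 2 ^ k = 1) :
    g * g = 1 := by
  induction k generalizing g with
  | zero => rw [pow_zero, pow_one] at hg; rw [hg, one_mul]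
  | succ k ih =>
    have h1 := ih (g := g * g) (by rw [← sq, ← pow_mul, ← pow_succ', hg])
    have t := mul_self_eq_neg_one_iff_SL.1 (h1.trans (neg_one_eq_one_SL.2 h2).symm)
    rw [mul_self_SL, Matrix.trace_sub, Matrix.trace_smul, Matrix.trace_one, smul_eq_mul] at t
    simp only [Fintype.card_fin, Nat.cast_ofNat, h2, sub_zero, mul_self_eq_zero] at t
    rw [mul_self_eq_neg_one_iff_SL.2 t, neg_one_eq_one_SL.2 h2]

theorem sl2_ne_one {g : SL(2, F)} (h1 : g ≠ 1) (a : g 0 0 = 1) (b : g 0 1 = 0) (d : g 1 1 = 1) :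
    g 1 0 ≠ 0 := fun c => h1 (by
  ext i j
  fin_cases i <;> fin_cases j <;> simp [a, b, c, d])

theorem sl2_free (h2 : (2 : F) = 0) {g : SL(2, F)} (hg : g * g = 1) (h1 : g ≠ 1) {v : Fin 2 → F}
    (hv : (g : Matrix (Fin 2) (Fin 2) F).mulVec v = v) :
    ∃ w, v = (g : Matrix (Fin 2) (Fin 2) F).mulVec w + w := by
  obtain ⟨e1, e2⟩ := sl2_entries h2 hg
  have v0 := congrFun hv 0
  have v1 := congrFun hv 1
  simp only [Matrix.mulVec, dotProduct, Fin.sum_univ_two] at v0 v1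
  by_cases hb : g 0 1 = 0
  · have a : g 0 0 = 1 := by
      rw [hb, zero_mul, mul_self_eq_zero] at e2
      grind
    have c := sl2_ne_one h1 a hb (e1.trans a)
    refine ⟨![v 1 / g 1 0, 0], funext fun i => ?_⟩
    fin_cases i <;> simp <;> grind
  · refine ⟨![0, v 0 / g 0 1], funext fun i => ?_⟩
    fin_cases i <;> simp <;> grind

theorem sl2_fix (h2 : (2 : F) = 0) {g g' : SL(2, F)} (hg : g * g = 1) (hg' : g' * g' = 1)
    (h1 : g ≠ 1) (hc : g * g' = g' * g) {v : Fin 2 → F}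
    (hv : (g : Matrix (Fin 2) (Fin 2) F).mulVec v = v) :
    (g' : Matrix (Fin 2) (Fin 2) F).mulVec v = v := by
  obtain ⟨e1, e2⟩ := sl2_entries h2 hg
  obtain ⟨e1', e2'⟩ := sl2_entries h2 hg'
  have v0 := congrFun hv 0
  have v1 := congrFun hv 1
  have c0 := congrArg (fun x : SL(2, F) => x 0 0) hc
  simp only [Matrix.SpecialLinearGroup.coe_mul, Matrix.mul_apply, Matrix.mulVec, dotProduct,
    Fin.sum_univ_two] at v0 v1 c0
  have f1 : (g' 0 0 + 1) * g 0 1 = (g 0 0 + 1) * g' 0 1 := by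
    have : ((g' 0 0 + 1) * g 0 1 - (g 0 0 + 1) * g' 0 1) ^ 2 = 0 := by grind
    exact sub_eq_zero.1 (pow_eq_zero_iff two_ne_zero |>.1 this)
  by_cases hb : g 0 1 = 0
  · have a : g 0 0 = 1 := by
      rw [hb, zero_mul, mul_self_eq_zero] at e2
      grind
    have c := sl2_ne_one h1 a hb (e1.trans a)
    have b' : g' 0 1 = 0 := by grind
    have a' : g' 0 0 = 1 := by
      rw [b', zero_mul, mul_self_eq_zero] at e2'
      grind
    funext i
    fin_cases i <;> simp [Matrix.mulVec, dotProduct, Fin.sum_univ_two] <;> grind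
  · funext i
    fin_cases i <;> simp [Matrix.mulVec, dotProduct, Fin.sum_univ_two] <;> grind

end SL2

variable {G : Type u} [Group G]

/-- First type: the normaliser of `P` induces `S₃`. -/
structure CaseI (P T : Subgroup G) : Prop where
  idx : ∀ a ∈ T, ∀ b ∈ T, a ∉ P → b ∉ P → a * b ∈ P
  inv : ∀ t ∈ T, t ∉ P → t * t = 1 →
    ∃ y ∈ normalizer (P : Set G), y ^ 3 = 1 ∧ y ≠ 1 ∧ t * y * t⁻¹ = y⁻¹
  ex : ∃ y ∈ normalizer (P : Set G), y ^ 3 = 1 ∧ y ≠ 1
  cent : ∀ t ∈ T, t ∉ P → ∃ v ∈ P, v * v = 1 ∧ (∀ p ∈ P, Commute v p) ∧ ¬ Commute t v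
  ne : ¬ T ≤ P

/-- Second type: `P` is a sum of natural modules for `SL₂(2ⁿ)`, `n ≥ 2`. -/
structure CaseII (P T : Subgroup G) : Prop where
  comm : ∀ a ∈ P, ∀ b ∈ P, Commute a b
  sq : ∀ a ∈ P, a * a = 1
  sqT : ∀ t ∈ T, t * t ∈ P
  fix : ∀ t ∈ T, t ∉ P → ∀ v ∈ P, Commute t v → ∀ t' ∈ T, Commute t' v
  free : ∀ t ∈ T, t ∉ P → ∀ v ∈ P, Commute t v → ∃ w ∈ P, v = t * w * t⁻¹ * w
  idx : 2 < P.relIndex T

/-- The involutions in the centre of `P`, with the identity. -/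
def Vz (P : Subgroup G) : Subgroup G where
  carrier := {v | v ∈ P ∧ (∀ p ∈ P, Commute v p) ∧ v * v = 1}
  one_mem' := ⟨P.one_mem, fun p _ => Commute.one_left p, one_mul 1⟩
  mul_mem' := fun {a b} ha hb => ⟨P.mul_mem ha.1 hb.1, fun p hp => (ha.2.1 p hp).mul_left
    (hb.2.1 p hp), by
      rw [mul_assoc, ← mul_assoc b, ← (ha.2.1 b hb.1).eq, mul_assoc, hb.2.2, mul_one, ha.2.2]⟩
  inv_mem' := fun {a} ha => ⟨P.inv_mem ha.1, fun p hp => (ha.2.1 p hp).inv_left, by
    rw [← mul_inv_rev, ha.2.2, inv_one]⟩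

theorem Vz_le (P : Subgroup G) : Vz P ≤ P := fun _ h => h.1

theorem conj_mem_Vz {P : Subgroup G} {g v : G} (hg : g ∈ normalizer (P : Set G)) (hv : v ∈ Vz P) :
    g * v * g⁻¹ ∈ Vz P :=
  ⟨mem_normalizer_conj hg hv.1, fun p hp => by
    have := (hv.2.1 _ (mem_normalizer_conj' hg hp)).eq
    change g * v * g⁻¹ * p = p * (g * v * g⁻¹)
    calc _ = g * (v * (g⁻¹ * p * g)) * g⁻¹ := by group
      _ = _ := by rw [this]; group, by
    calc _ = g * (v * v) * g⁻¹ := by group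
      _ = 1 := by rw [hv.2.2]; group⟩

instance Vz_normal (P : Subgroup G) [P.Normal] : (Vz P).Normal :=
  ⟨fun _ hv g => conj_mem_Vz (by rw [normalizer_eq_top]; exact mem_top g) hv⟩

instance Vz_comm (P : Subgroup G) : IsMulCommutative (Vz P) :=
  ⟨⟨fun a b => Subtype.ext (a.2.2.1 b b.2.1)⟩⟩

theorem Vz_ne_bot [Finite G] {P : Subgroup G} (hP : IsPGroup 2 P) (h : P ≠ ⊥) : Vz P ≠ ⊥ := by
  have := (nontrivial_iff_ne_bot P).2 h
  obtain ⟨⟨z, hz⟩, hz1⟩ := ne_bot_iff_exists_ne_one.1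
    ((nontrivial_iff_ne_bot _).1 hP.center_nontrivial)
  obtain ⟨k, hk⟩ := hP z
  obtain ⟨m, h1, h2⟩ := exists_pow_invol hk fun e => hz1 (Subtype.ext e)
  refine ne_bot_iff_exists_ne_one.2 ⟨⟨(z ^ m : P), (z ^ m).2, fun p hp => ?_,
    congrArg Subtype.val h2⟩, fun e => h1 (Subtype.ext (congrArg (fun x : Vz P => (x : G)) e))⟩
  exact (congrArg Subtype.val (mem_center_iff.1 (pow_mem hz m) ⟨p, hp⟩)).symm

theorem N6.coprime_centralizer [Finite G] (h : N6 G) {W : Subgroup G} (hW : IsPGroup 2 W)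
    (h1 : W ≠ ⊥) : (Nat.card (centralizer (W : Set G))).Coprime 3 := by
  have := Fact.mk Nat.prime_three
  refine ((Nat.Prime.coprime_iff_not_dvd Nat.prime_three).2 fun h3 => ?_).symm
  obtain ⟨y, hy⟩ := exists_prime_orderOf_dvd_card' 3 h3
  obtain ⟨⟨w, hw⟩, hw1⟩ := ne_bot_iff_exists_ne_one.1 h1
  rw [← orderOf_coe] at hy
  exact hw1 (Subtype.ext (h.eq_one_of_mem hW hw (hy ▸ pow_orderOf_eq_one (y : G))
    (fun e => by simp [e] at hy) (y.2 w hw)))

theorem exists_two_lift [Finite G] {H : Type*} [Group H] (f : G →* H) {x : G}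
    (hx : f x * f x = 1) : ∃ m k : ℕ, f (x ^ m) = f x ∧ (x ^ m) ^ 2 ^ k = 1 := by
  obtain ⟨k, m, ⟨j, hj⟩, h⟩ := Nat.exists_eq_two_pow_mul_odd (orderOf_pos x).ne'
  refine ⟨m, k, ?_, by rw [← pow_mul, mul_comm, ← h, pow_orderOf_eq_one]⟩
  rw [map_pow, hj, pow_succ, pow_mul, sq, hx, one_pow, one_mul]

theorem isPGroup_zpowers {x : G} {k : ℕ} (hx : x ^ 2 ^ k = 1) : IsPGroup 2 (zpowers x) := by
  rintro ⟨_, j, rfl⟩
  exact ⟨k, Subtype.ext (by
    change (x ^ j) ^ 2 ^ k = 1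
    rw [← zpow_natCast, ← zpow_mul, mul_comm, zpow_mul, zpow_natCast, hx, one_zpow])⟩

/-- The group induced on `Vz P`. -/
abbrev Gam (P : Subgroup G) : Type u := G ⧸ centralizer (Vz P : Set G)

/-- The local hypotheses. -/
structure Loc (P T : Subgroup G) : Prop where
  n6 : N6 G
  two : IsPGroup 2 P
  ne : P ≠ ⊥
  syl : IsSylowIn 2 T ⊤
  rad : ∀ K : Subgroup G, K.Normal → (Nat.card K).Coprime 3 → T ⊓ K ≤ P
  d6 : ∃ y s : G, y ^ 3 = 1 ∧ y ≠ 1 ∧ s * s = 1 ∧ s * y * s⁻¹ = y⁻¹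

namespace Loc
variable [Finite G] {P T : Subgroup G} [hPn : P.Normal]

theorem two_mem (h : Loc P T) (K : Subgroup G) [hK : K.Normal] (h3 : (Nat.card K).Coprime 3)
    {c : G} (hc : c ∈ K) {k : ℕ} (hk : c ^ 2 ^ k = 1) : c ∈ P := by
  obtain ⟨x, -, hx⟩ := h.syl.exists_cj_le (isPGroup_zpowers hk) le_top
  have := hPn.conj_mem _ (h.rad K hK h3 ⟨cj_le_iff.1 hx c (mem_zpowers c), hK.conj_mem c hc x⟩) x⁻¹
  simpa [mul_assoc] using this

omit hPn in
theorem cop (h : Loc P T) : (Nat.card (centralizer (Vz P : Set G))).Coprime 3 :=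
  h.n6.coprime_centralizer (h.two.to_le (Vz_le P)) (Vz_ne_bot h.two h.ne)

omit [Finite G] hPn in
theorem le_cent : P ≤ centralizer (Vz P : Set G) := fun p hp _ hv => hv.2.1 p hp

omit [Finite G] hPn in
theorem f3 (h : Loc P T) {Q : Subgroup G} (hQ : IsPGroup 2 Q) {y : G} (hy : y ^ 3 = 1)
    (hy1 : y ≠ 1) : F3 Q y :=
  ⟨hy, fun _ hq e => h.n6.eq_one_of_mem hQ hq hy hy1 (mul_inv_eq_iff_eq_mul.1 e).symm⟩

/-- The action on `Vz P`. -/
def rho (P : Subgroup G) [P.Normal] :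
    Gam P →* AddMonoid.End (Additive (Vz P)) :=
  QuotientGroup.lift _ (conjEnd (Vz P)) fun q hq => AddMonoidHom.ext fun v => Subtype.ext (by
    change q * (v.toMul : G) * q⁻¹ = v.toMul
    rw [← hq _ v.toMul.2, mul_inv_cancel_right])

omit [Finite G] in
theorem rho_mk (g : G) : rho P (g : Gam P) = conjEnd (Vz P) g := rfl

theorem qrep (h : Loc P T) : QRep (rho P) := by
  have two : ∀ r : AddMonoid.End (Additive (Vz P)), r + r = 0 := fun r =>
    AddMonoidHom.ext fun v => Subtype.ext (r v).toMul.2.2.2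
  refine ⟨by rw [← one_add_one_eq_two, two], (injective_iff_map_eq_one _).2 fun x hx => ?_,
    fun y hy hy1 => ?_⟩
  · obtain ⟨x, rfl⟩ := QuotientGroup.mk_surjective x
    refine (QuotientGroup.eq_one_iff _).2 fun v hv => ?_
    have : x * v * x⁻¹ = v :=
      congrArg (fun r : AddMonoid.End (Additive (Vz P)) => ((r (Additive.ofMul ⟨v, hv⟩)).toMul : G)) hx
    exact (mul_inv_eq_iff_eq_mul.1 this).symm
  · obtain ⟨y, rfl, h3⟩ := exists_lift (QuotientGroup.mk' _) (QuotientGroup.mk'_surjective _)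
      (by rw [QuotientGroup.ker_mk']; exact h.cop) hy
    have := (h.f3 (h.two.to_le (Vz_le P)) h3 fun e => hy1 (by rw [e, map_one])).quad
      (h.two.to_le (Vz_le P))
    rw [QuotientGroup.mk'_apply, rho_mk, this, sub_eq_add_neg, neg_eq_of_add_eq_zero_right (two 1),
      neg_eq_of_add_eq_zero_right (two _), add_comm]

theorem odd_of_normal (h : Loc P T) (R : Subgroup (Gam P))
    (hR : R.Normal) (h3 : (Nat.card R).Coprime 3) : Odd (Nat.card R) := by
  by_contra h2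
  obtain ⟨t, ht, ht2⟩ := exists_invol_of_even h2
  obtain ⟨t, rfl⟩ := QuotientGroup.mk'_surjective _ t
  obtain ⟨m, k, e, hk⟩ := exists_two_lift _ (sq_of_orderOf ht2).2
  have := hR.comap (QuotientGroup.mk' _)
  have := h.two_mem (R.comap (QuotientGroup.mk' _)) (by
    rw [← card_mul_relIndex (ker_le_comap _ R), relIndex_ker,
      map_comap_eq_self_of_surjective (QuotientGroup.mk'_surjective _), QuotientGroup.ker_mk']
    exact Nat.Coprime.mul_left h.cop h3) (c := t ^ m) (by rwa [mem_comap, e]) hk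
  exact (sq_of_orderOf ht2).1 (e ▸ (QuotientGroup.eq_one_iff _).2 (le_cent this))

omit hPn in
theorem ne_one_mk (h : Loc P T) [(centralizer (Vz P : Set G)).Normal] {y : G} (hy : y ^ 3 = 1)
    (hy1 : y ≠ 1) : (y : Gam P) ≠ 1 := fun e =>
  hy1 (QRep.eq_one_of_coprime (congrArg Subtype.val (pow_card_eq_one'
    (x := (⟨y, (QuotientGroup.eq_one_iff _).1 e⟩ : centralizer (Vz P : Set G))))) hy h.cop)

theorem caseI (h : Loc P T) {y s : G} (hy : y ^ 3 = 1) (hy1 : y ≠ 1) (hs : s * s = 1)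
    (hsy : s * y * s⁻¹ = y⁻¹) (h1 : ∀ y' : Gam P, y' ^ 3 = 1 → y' ≠ 1 →
      y' = y ∨ y' = (y : Gam P)⁻¹) : CaseI P T := by
  have y3 : (y : Gam P) ^ 3 = 1 := by
    rw [← QuotientGroup.mk_pow, hy, QuotientGroup.mk_one]
  have y1 := h.ne_one_mk hy hy1
  have memP : ∀ t ∈ T, Commute (t : Gam P) y → t ∈ P := fun t ht hc => by
    obtain ⟨k, hk⟩ := h.syl.isPGroup ⟨t, ht⟩
    have hk' : t ^ 2 ^ k = 1 := congrArg Subtype.val hk
    refine h.two_mem _ h.cop ((QuotientGroup.eq_one_iff _).1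
      ((h.n6.quotient _).eq_one_of_commute (k := k) ?_ y3 y1 hc)) hk'
    rw [← QuotientGroup.mk_pow, hk', QuotientGroup.mk_one]
  have inv : ∀ t ∈ T, t ∉ P → (t : Gam P) * y * (t : Gam P)⁻¹ =
      (y : Gam P)⁻¹ := fun t ht htP =>
    (h1 _ (by rw [conj_pow, y3]; group) fun e => y1 (by simpa [mul_inv_eq_one] using e)).resolve_left
      fun e => htP (memP t ht (mul_inv_eq_iff_eq_mul.1 e))
  have top : ∀ g : G, g ∈ normalizer (P : Set G) := fun g => by
    rw [normalizer_eq_top]; exact mem_top g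
  refine ⟨fun a ha b hb haP hbP => memP _ (T.mul_mem ha hb) ?_, fun t ht htP htt => ?_,
    ⟨y, top y, hy, hy1⟩, fun t ht htP => ?_, fun hTP => ?_⟩
  · refine mul_inv_eq_iff_eq_mul.1 ?_
    rw [QuotientGroup.mk_mul]
    calc _ = (a : Gam P) * ((b : Gam P) * y * (b : Gam P)⁻¹) *
          (a : Gam P)⁻¹ := by group
      _ = ((a : Gam P) * y * (a : Gam P)⁻¹)⁻¹ := by
          rw [inv b hb hbP]; group
      _ = y := by rw [inv a ha haP, inv_inv]
  · have e1 : ((t * y * t⁻¹ * y⁻¹ : G) : Gam P) = y := by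
      rw [QuotientGroup.mk_mul, QuotientGroup.mk_mul, QuotientGroup.mk_mul, QuotientGroup.mk_inv,
        QuotientGroup.mk_inv, inv t ht htP, ← mul_inv_rev, inv_eq_iff_mul_eq_one, ← pow_three', y3]
    obtain ⟨m, h2, h3⟩ := exists_pow_three (w := t * y * t⁻¹ * y⁻¹) (by
      rw [← orderOf_eq_three y3 y1, ← e1]
      exact orderOf_map_dvd (QuotientGroup.mk' _) _)
    refine ⟨_, top _, h3, h2, ?_⟩
    rw [← conj_pow, ← inv_pow]
    congr 1
    calc _ = (t * t) * y * t⁻¹ * y⁻¹ * t⁻¹ := by group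
      _ = y * ((t * t) * t⁻¹) * y⁻¹ * t⁻¹ := by rw [htt]; group
      _ = _ := by group
  · by_contra hc
    push Not at hc
    obtain ⟨k, hk⟩ := h.syl.isPGroup ⟨t, ht⟩
    exact htP (h.two_mem _ h.cop (fun v hv => (hc v hv.1 hv.2.2 hv.2.1).eq.symm)
      (congrArg Subtype.val hk))
  · obtain ⟨x, -, hx⟩ := h.syl.exists_cj_le (isPGroup_zpowers (x := s) (k := 1) (by rwa [pow_one, sq]))
      le_top
    have h2 : s ∈ P := by
      simpa [mul_assoc] using hPn.conj_mem _ (hTP (cj_le_iff.1 hx s (mem_zpowers s))) x⁻¹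
    have h3 : y ∈ P := by
      have := P.mul_mem h2 (hPn.conj_mem _ (P.inv_mem h2) y)
      rwa [show s * (y * s⁻¹ * y⁻¹) = s * y * s⁻¹ * y⁻¹ by group, hsy, ← mul_inv_rev,
        P.inv_mem_iff, show y * y = y⁻¹ by rw [eq_inv_iff_mul_eq_one, ← pow_three', hy],
        P.inv_mem_iff] at this
    exact hy1 (h.n6.eq_one_of_mem h.two h3 hy hy1 (Commute.refl y))

section II
variable {K : Subgroup (Gam P)} {F : Type} [Field F] [Fintype F] (e : K ≃* SL(2, F))

theorem key (h : Loc P T) [IsSimpleGroup K] {y : Gam P} (hy : y ^ 3 = 1)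
    (hy1 : y ≠ 1) (hyK : y ∈ K) (W : Subgroup G) (hWn : W.Normal) (hW : W ≤ P) (h1 : W ≠ ⊥) {g : G}
    (hg : g ∈ centralizer (W : Set G)) (hgK : (g : Gam P) ∈ K) : (g : Gam P) = 1 := by
  have hn := (inferInstance : (centralizer (W : Set G)).Normal).map _
    (QuotientGroup.mk'_surjective (centralizer (Vz P : Set G)))
  have hc := (h.n6.coprime_centralizer (h.two.to_le hW) h1).coprime_dvd_left (card_map_dvd _
    (QuotientGroup.mk' (centralizer (Vz P : Set G))))
  have hm := mem_map_of_mem (QuotientGroup.mk' (centralizer (Vz P : Set G))) hg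
  generalize (centralizer (W : Set G)).map (QuotientGroup.mk' (centralizer (Vz P : Set G))) = D at *
  rcases (hn.subgroupOf K).eq_bot_or_eq_top with h2 | h2
  · have : (⟨_, hgK⟩ : K) ∈ D.subgroupOf K := hm
    rw [h2, mem_bot] at this
    exact congrArg Subtype.val this
  · have h3 : (⟨y, hyK⟩ : K) ∈ D.subgroupOf K := h2 ▸ mem_top _
    exact absurd (QRep.eq_one_of_coprime (congrArg Subtype.val (pow_card_eq_one'
      (x := (⟨y, h3⟩ : D)))) hy hc) hy1

include e in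
theorem le_Vz (h : Loc P T) (h2 : (2 : F) = 0) (h4 : 4 ≤ Fintype.card F)
    (h3 : ∀ y : Gam P, y ^ 3 = 1 → y ∈ K) : P ≤ Vz P := by
  obtain ⟨hs, hc⟩ := simple_SL2 h2 h4
  have := e.isSimpleGroup
  obtain ⟨a, -, a3, a1, -⟩ := h.d6
  have cube : ∀ {x : G}, x ^ 3 = 1 → (x : Gam P) ^ 3 = 1 := fun {x} hx => by
    rw [← QuotientGroup.mk_pow, hx, QuotientGroup.mk_one]
  have aK := h3 _ (cube a3)
  have a1' := h.ne_one_mk a3 a1
  obtain ⟨⟨g, hgK⟩, hg⟩ := exists_conj_not_commute (G := K)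
    (fun h => hc ⟨⟨fun x y => e.symm.injective (by rw [map_mul, map_mul, h.1.1])⟩⟩)
    (a := ⟨a, aK⟩) fun e => a1' (congrArg Subtype.val e)
  obtain ⟨g, rfl⟩ := QuotientGroup.mk_surjective g
  have ha := h.f3 h.two a3 a1
  have hb := ha.conj g
  have hab : (a : Gam P) * (g * a * g⁻¹ : G) ≠ (g * a * g⁻¹ : G) * a := fun e => hg (Subtype.ext e)
  generalize g * a * g⁻¹ = b at hb hab
  clear hg hgK g
  have bK := h3 _ (cube hb.cube)
  have key' := fun W hWn hW h1 g => h.key (cube a3) a1' aK W hWn hW h1 (g := g)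
  have h3a := ha.fpf3 h.two
  have h3b := hb.fpf3 h.two
  have hcomm : ⁅P, P⁆ = ⊥ := by
    by_contra h1
    have h5 := key' ⁅P, P⁆ inferInstance (commutator_le_self P) h1
      ((b * b * (a * a))⁻¹ * (a * a * (b * b))) (by
        refine mem_centralizer_iff.2 fun w hw => ?_
        refine mem_centralizer_singleton_iff.1 ((commutator_le.2 fun x hx y hy => ?_ :
          ⁅P, P⁆ ≤ centralizer {_}) hw)
        have : MulAut.conjNormal ((b * b * (a * a))⁻¹ * (a * a * (b * b)))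
            ⁅(⟨x, hx⟩ : P), (⟨y, hy⟩ : P)⁆ = ⁅(⟨x, hx⟩ : P), (⟨y, hy⟩ : P)⁆ := by
          rw [map_mul, map_inv, MulAut.mul_apply, MulAut.inv_def, MulEquiv.symm_apply_eq]
          simp only [map_mul, MulAut.mul_apply]
          rw [← h3b.comm_right, ← h3a.comm_left, ← h3a.comm_left, ← h3b.comm_right]
        exact mem_centralizer_singleton_iff.2
          (mul_inv_eq_iff_eq_mul.1 (congrArg Subtype.val this)).symm)
      (K.mul_mem (K.inv_mem (K.mul_mem (K.mul_mem bK bK) (K.mul_mem aK aK)))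
        (K.mul_mem (K.mul_mem aK aK) (K.mul_mem bK bK)))
    have h6 : Commute ((a : Gam P) * a) ((b : Gam P) * b) := (inv_mul_eq_one.1 h5).symm
    have h7 : ∀ {x : G}, x ^ 3 = 1 → (x : Gam P) = ((x : Gam P) * x) ^ 2 := fun {x} hx => by
      rw [← sq, ← pow_mul, pow_succ, cube hx, one_mul]
    apply hab
    rw [h7 ha.cube, h7 hb.cube]
    exact h6.pow_pow 2 2
  have hcm : ∀ x ∈ P, ∀ y ∈ P, Commute x y := fun x hx y hy =>
    commutatorElement_eq_one_iff_commute.1 (mem_bot.1 (hcomm ▸ commutator_mem_commutator hx hy))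
  have : IsMulCommutative P := ⟨⟨fun x y => Subtype.ext (hcm x x.2 y y.2)⟩⟩
  have hle : closure ({(a : Gam P), (b : Gam P)} : Set (Gam P)) ≤ K := (closure_le _).2 (by
    rintro _ (rfl | rfl)
    exacts [aK, bK])
  obtain ⟨t, ht, ht2⟩ := exists_invol_of_even
    (H := closure ({(a : Gam P), (b : Gam P)} : Set (Gam P))) fun hodd => hab (by
      have := comm_of_odd_SL2 h2
        (H := ((closure ({(a : Gam P), (b : Gam P)} : Set (Gam P))).subgroupOf K).map e.toMonoidHom)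
        (by rwa [card_map_of_injective e.injective, Nat.card_congr
          (subgroupOfEquivOfLe hle).toEquiv]) _
        (mem_map_of_mem _ (x := ⟨_, aK⟩) (subset_closure (by simp))) _
        (mem_map_of_mem _ (x := ⟨_, bK⟩) (subset_closure (by simp)))
      rw [← map_mul, ← map_mul] at this
      exact congrArg Subtype.val (e.injective this))
  have tK := hle ht
  rw [show closure ({(a : Gam P), (b : Gam P)} : Set (Gam P)) =
      (closure {a, b}).map (QuotientGroup.mk' _) by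
    rw [MonoidHom.map_closure, Set.image_pair]; rfl] at ht
  obtain ⟨t, ht, rfl⟩ := ht
  obtain ⟨m, k, e1, hk⟩ := exists_two_lift _ (sq_of_orderOf ht2).2
  rw [← e1] at ht2 tK
  have ht' := pow_mem ht m
  generalize t ^ m = t at *
  have ht3 : t * t ∈ P := h.two_mem _ h.cop
    ((QuotientGroup.eq_one_iff _).1 (sq_of_orderOf ht2).2) (k := k)
    (by rw [← sq, ← pow_mul, mul_comm, pow_mul, hk, one_pow])
  let W : Subgroup G :=
    { carrier := {x | ∃ p ∈ P, p * p = x}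
      one_mem' := ⟨1, P.one_mem, one_mul 1⟩
      mul_mem' := by
        rintro _ _ ⟨p, hp, rfl⟩ ⟨q, hq, rfl⟩
        exact ⟨p * q, P.mul_mem hp hq, by
          rw [mul_assoc, ← mul_assoc q, ← (hcm p hp q hq).eq]; group⟩
      inv_mem' := by
        rintro _ ⟨p, hp, rfl⟩
        exact ⟨p⁻¹, P.inv_mem hp, by group⟩ }
  have hWn : W.Normal := ⟨by
    rintro _ ⟨p, hp, rfl⟩ g
    exact ⟨_, hPn.conj_mem p hp g, by group⟩⟩
  have hW : W = ⊥ := by
    by_contra h1
    have hq : ∀ q ∈ P, ∀ x : P, MulAut.conjNormal q x = x := fun q hq x => Subtype.ext (by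
      rw [MulAut.conjNormal_apply, mul_inv_eq_iff_eq_mul]
      exact hcm _ hq _ x.2)
    have hti : ∀ x : P, MulAut.conjNormal t⁻¹ x = MulAut.conjNormal t x := fun x => by
      rw [← hq _ ht3 x, ← MulAut.mul_apply, ← map_mul, inv_mul_cancel_left, hq _ ht3]
    have h5 := key' W hWn (by rintro _ ⟨p, hp, rfl⟩; exact P.mul_mem hp hp) h1
      ((t * a)⁻¹ * (a * t)) (by
        rintro _ ⟨p, hp, rfl⟩
        let x : P := ⟨p, hp⟩
        have h2 : MulAut.conjNormal a (MulAut.conjNormal t x * MulAut.conjNormal t⁻¹ x) =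
            MulAut.conjNormal t (MulAut.conjNormal a x) *
              MulAut.conjNormal t⁻¹ (MulAut.conjNormal a x) :=
          congrArg Additive.toMul (DFunLike.congr_fun (ha.conj_mul_conj h.two hb ht').1.eq
            (Additive.ofMul x))
        rw [hti, hti, ← map_mul, ← map_mul, ← map_mul] at h2
        have : MulAut.conjNormal ((t * a)⁻¹ * (a * t)) (x * x) = x * x := by
          rw [map_mul MulAut.conjNormal, map_inv, MulAut.mul_apply, MulAut.inv_def,
            MulEquiv.symm_apply_eq, map_mul MulAut.conjNormal, map_mul MulAut.conjNormal,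
            MulAut.mul_apply, MulAut.mul_apply, h2]
        exact (mul_inv_eq_iff_eq_mul.1 (congrArg Subtype.val this)).symm)
      (K.mul_mem (K.inv_mem (K.mul_mem tK aK)) (K.mul_mem aK tK))
    exact (h.n6.quotient _).not_commute (sq_of_orderOf ht2).2 (sq_of_orderOf ht2).1 (cube a3) a1'
      (inv_mul_eq_one.1 h5)
  exact fun p hp => ⟨hp, hcm p hp, mem_bot.1 (hW ▸ (⟨p, hp, rfl⟩ : p * p ∈ W))⟩

include e in
theorem caseII (h : Loc P T) (h2 : (2 : F) = 0) (h4 : 4 ≤ Fintype.card F)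
    (h3 : ∀ y : Gam P, y ^ 3 = 1 → y ∈ K) (ht : ∀ (t : Gam P) (k : ℕ), t ^ 2 ^ k = 1 → t ∈ K) :
    CaseII P T := by
  have hV := h.le_Vz e h2 h4 h3
  have hq := h.qrep
  have : CharP F 2 := CharTwo.of_one_ne_zero_of_two_eq_zero one_ne_zero h2
  obtain ⟨k, Θ, hΘ⟩ := exists_natural (V := Additive (Vz P)) h2 (fun t => by
    obtain ⟨s, hs⟩ := (frobeniusEquiv F 2).surjective t
    exact ⟨s, by rw [← hs, ← sq]; rfl⟩) (fun v => Subtype.ext v.toMul.2.2.2)
    ((rho P).comp (K.subtype.comp e.symm.toMonoidHom)) fun t ht => by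
      have e2 : slV t⁻¹ * slU t = (slU t * slV t⁻¹)⁻¹ := by
        rw [mul_inv_rev, ← slU_neg, ← slV_neg, CharTwo.neg_eq, CharTwo.neg_eq]
      have e3 : (slU t * slV t⁻¹) ^ 3 = 1 := by
        ext i j
        fin_cases i <;> fin_cases j <;>
          simp [pow_three, Matrix.mul_apply, Fin.sum_univ_two] <;> grind
      have e1 : slU t * slV t⁻¹ ≠ 1 := fun h => ht (by
        simpa [Matrix.mul_apply, Fin.sum_univ_two] using congrArg (fun g : SL(2, F) => g 0 1) h)
      rw [← map_mul, ← map_mul, e2, MonoidHom.comp_apply, MonoidHom.comp_apply (rho P),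
        map_inv (K.subtype.comp e.symm.toMonoidHom), 
        hq.map_inv (y := (K.subtype.comp e.symm.toMonoidHom) _)
          (by rw [← map_pow, e3, map_one]) (fun h => e1 (e.symm.map_eq_one_iff.1 (Subtype.ext h))),
        ← add_assoc, hq.add_self, zero_add]
  have two : ∀ t ∈ T, ∃ k, t ^ 2 ^ k = 1 := fun t ht => by
    obtain ⟨k, hk⟩ := h.syl.isPGroup ⟨t, ht⟩
    exact ⟨k, congrArg Subtype.val hk⟩
  have TK : ∀ t ∈ T, (t : Gam P) ∈ K := fun t h1 => by
    obtain ⟨k, hk⟩ := two t h1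
    exact ht _ k (by rw [← QuotientGroup.mk_pow, hk, QuotientGroup.mk_one])
  let φ : T →* SL(2, F) := e.toMonoidHom.comp
    (((QuotientGroup.mk' _).comp T.subtype).codRestrict K fun t => TK t t.2)
  have ker : ∀ t : T, φ t = 1 → (t : G) ∈ P := fun t h1 => by
    obtain ⟨k, hk⟩ := two t t.2
    exact h.two_mem _ h.cop ((QuotientGroup.eq_one_iff _).1
      (congrArg Subtype.val (e.map_eq_one_iff.1 h1))) hk
  have sq : ∀ t : T, φ t * φ t = 1 := fun t => by
    obtain ⟨k, hk⟩ := h.syl.isPGroup t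
    exact sl2_sq_of_two_pow h2 (k := k) (by rw [← map_pow, hk, map_one])
  have act : ∀ (t : T) (v : Vz P) (i : Fin k), Θ (Additive.ofMul (MulAut.conjNormal (t : G) v)) i =
      (φ t : Matrix (Fin 2) (Fin 2) F).mulVec (Θ (Additive.ofMul v) i) := fun t v i => by
    rw [← hΘ]
    simp only [φ, MonoidHom.comp_apply, MulEquiv.coe_toMonoidHom, e.symm_apply_apply]
    rfl
  have fixi : ∀ (t : T) (v : Vz P), Commute (t : G) v ↔ ∀ i,
      (φ t : Matrix (Fin 2) (Fin 2) F).mulVec (Θ (Additive.ofMul v) i) = Θ (Additive.ofMul v) i :=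
    fun t v => by
      simp only [← act]
      rw [← funext_iff, Θ.apply_eq_iff_eq, Additive.ofMul.apply_eq_iff_eq, Subtype.ext_iff,
        MulAut.conjNormal_apply, mul_inv_eq_iff_eq_mul]
      rfl
  refine ⟨fun a ha => (hV ha).2.1, fun a ha => (hV ha).2.2, fun t ht => ker (⟨t, ht⟩ * ⟨t, ht⟩)
    (by rw [map_mul, sq]), fun t ht htP v hv hc t' ht' => ?_, fun t ht htP v hv hc => ?_, ?_⟩
  · refine (fixi ⟨t', ht'⟩ ⟨v, hV hv⟩).2 fun i => sl2_fix h2 (sq _) (sq _)
      (fun e => htP (ker ⟨t, ht⟩ e)) ?_ ((fixi ⟨t, ht⟩ ⟨v, hV hv⟩).1 hc i)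
    have h1 := sq (⟨t, ht⟩ * ⟨t', ht'⟩)
    rw [map_mul] at h1
    rw [eq_inv_of_mul_eq_one_left h1, mul_inv_rev, ← eq_inv_of_mul_eq_one_left (sq _),
      ← eq_inv_of_mul_eq_one_left (sq _)]
  · choose w hw using fun i => sl2_free h2 (sq _) (fun e => htP (ker ⟨t, ht⟩ e))
      ((fixi ⟨t, ht⟩ ⟨v, hV hv⟩).1 hc i)
    refine ⟨(Θ.symm w).toMul, (Θ.symm w).toMul.2.1, ?_⟩
    have : Additive.ofMul (⟨v, hV hv⟩ : Vz P) =
        Additive.ofMul (MulAut.conjNormal t (Θ.symm w).toMul) + Θ.symm w := by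
      refine Θ.injective (funext fun i => ?_)
      rw [map_add, Pi.add_apply, act ⟨t, ht⟩, hw, ofMul_toMul, Θ.apply_symm_apply]
    exact congrArg (fun x : Additive (Vz P) => (x.toMul : G)) this
  · let U : Multiplicative F →* Gam P := K.subtype.comp (e.symm.toMonoidHom.comp
      (MonoidHom.mk' (fun x => slU x.toAdd) fun x y => slU_add _ _))
    have hU : Function.Injective U := K.subtype_injective.comp (e.symm.injective.comp
      fun x y h => by simpa using congrArg (fun g : SL(2, F) => g 0 1) h)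
    have h5 := (h.syl.map (QuotientGroup.mk' (centralizer (Vz P : Set G)))).card_le (Q := U.range)
      (by
        rintro ⟨_, x, rfl⟩
        exact ⟨1, Subtype.ext (by
          change U x ^ 2 ^ 1 = 1
          rw [← map_pow, pow_one, pow_two, show x * x = 1 from CharTwo.add_self_eq_zero x.toAdd,
            map_one])⟩)
      (by rw [map_top_of_surjective _ (QuotientGroup.mk'_surjective _)]; exact le_top)
    rw [← Nat.card_congr (MonoidHom.ofInjective hU).toEquiv, ← relIndex_ker, QuotientGroup.ker_mk',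
      ← inf_relIndex_right, Nat.card_congr Multiplicative.toAdd, Nat.card_eq_fintype_card] at h5
    have h6 : centralizer (Vz P : Set G) ⊓ T = P ⊓ T := le_antisymm
      (le_inf ((inf_comm _ _).le.trans (h.rad _ inferInstance h.cop)) inf_le_right)
      (inf_le_inf_right _ le_cent)
    rw [h6, inf_relIndex_right] at h5
    omega

end II

/-- The two possible structures. -/
theorem thmB (kb : KB.{u}) (h : Loc P T) (ih : IH.{u} (Nat.card G + 1)) :
    CaseI P T ∨ CaseII P T := by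
  obtain ⟨y, s, hy, hy1, hs, hsy⟩ := h.d6
  rcases gamma_struct kb (h.n6.quotient _) h.qrep.quadProp h.odd_of_normal
    (ih.mono (Nat.succ_le_succ (Nat.le_of_dvd Nat.card_pos (card_quotient_dvd_card _))))
    (y := (y : Gam P)) (by rw [← QuotientGroup.mk_pow, hy, QuotientGroup.mk_one])
    (h.ne_one_mk hy hy1) with h1 | ⟨K, F, _, _, e, h2, h4, -, h3, ht⟩
  · exact .inl (h.caseI hy hy1 hs hsy h1)
  · exact .inr (h.caseII e h2 h4 h3 ht)

end Loc

end Cfsg.Lib.NoSix
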