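import Cfsg.Agent.NoSix.Setup
import Cfsg.Agent.Trans.Radical
import Cfsg.Agent.Trans.AlpOdd

/-!
# Tools for the fusion analysis
-/

set_option autoImplicit false

universe u

namespace Cfsg.Lib.NoSix

open Subgroup Cfsg.Lib.Trans Cfsg.Lib.Rank2
open scoped commutatorElement

variable {G : Type u} [Group G]

/-- `A ⊓ E` has index at most two in `E`. -/
def Ix2 (A E : Subgroup G) : Prop := ∀ a ∈ E, ∀ b ∈ E, a ∉ A → b ∉ A → a * b ∈ A

theorem Ix2.mono {A A' E E' : Subgroup G} (h : Ix2 A E) (hE : E' ≤ E)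
    (hA : ∀ x ∈ E', x ∈ A → x ∈ A') : Ix2 A' E' := fun a ha b hb h1 h2 =>
  hA _ (E'.mul_mem ha hb) (h a (hE ha) b (hE hb) (fun e => h1 (hA a ha e)) fun e => h2 (hA b hb e))

theorem Ix2.cj {A E : Subgroup G} (h : Ix2 A E) (g : G) : Ix2 (cj g A) (cj g E) :=
  fun a ha b hb h1 h2 => by
    rw [mem_cj] at *
    have := h _ ha _ hb h1 h2
    rwa [show g⁻¹ * a * g * (g⁻¹ * b * g) = g⁻¹ * (a * b) * g by group] at this

theorem Ix2.sq {A E : Subgroup G} (h : Ix2 A E) {a : G} (ha : a ∈ E) : a * a ∈ A := by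
  by_cases h1 : a ∈ A
  exacts [A.mul_mem h1 h1, h a ha a ha h1 h1]

theorem Ix2.inv_mul {A E : Subgroup G} (h : Ix2 A E) {a b : G} (ha : a ∈ E) (hb : b ∈ E)
    (h1 : a ∉ A) (h2 : b ∉ A) : a⁻¹ * b ∈ A :=
  h _ (E.inv_mem ha) _ hb (fun e => h1 (A.inv_mem_iff.1 e)) h2

/-- No self-centralising four-subgroup. -/
def NoFour (S : Subgroup G) : Prop :=
  ∀ a ∈ S, ∀ b ∈ S, a * a = 1 → b * b = 1 → Commute a b → a ≠ 1 → b ≠ 1 → a ≠ b →
    ∃ s ∈ S, Commute s a ∧ Commute s b ∧ s ≠ 1 ∧ s ≠ a ∧ s ≠ b ∧ s ≠ a * b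

theorem NoFour.false {S E A B : Subgroup G} (h : NoFour S) (hE : E ≤ S)
    (hc : S ⊓ centralizer (E : Set G) ≤ E) (iA : Ix2 A E) (iB : Ix2 B E)
    (hD : ∀ x ∈ E, x ∈ A → x ∈ B → x = 1) {a b : G} (ha : a ∈ E) (haA : a ∈ A) (ha1 : a ≠ 1)
    (hb : b ∈ E) (hbB : b ∈ B) (hb1 : b ≠ 1) : False := by
  have sq : ∀ x ∈ E, x * x = 1 := fun x hx => hD _ (E.mul_mem hx hx) (iA.sq hx) (iB.sq hx)
  have haB : a ∉ B := fun e => ha1 (hD a ha haA e)
  have hbA : b ∉ A := fun e => hb1 (hD b hb e hbB)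
  have cm : ∀ x ∈ E, ∀ y ∈ E, Commute x y := fun x hx y hy => by
    have := sq _ (E.mul_mem hx hy)
    change x * y = y * x
    rw [eq_inv_of_mul_eq_one_left this, mul_inv_rev, ← eq_inv_of_mul_eq_one_left (sq x hx),
      ← eq_inv_of_mul_eq_one_left (sq y hy)]
  have cases : ∀ x ∈ E, x = 1 ∨ x = a ∨ x = b ∨ x = a * b := fun x hx => by
    by_cases h1 : x ∈ A <;> by_cases h2 : x ∈ B
    · exact .inl (hD x hx h1 h2)
    · exact .inr (.inl (inv_mul_eq_one.1 (hD _ (E.mul_mem (E.inv_mem ha) hx)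
        (A.mul_mem (A.inv_mem haA) h1) (iB.inv_mul ha hx haB h2))).symm)
    · exact .inr (.inr (.inl (inv_mul_eq_one.1 (hD _ (E.mul_mem (E.inv_mem hb) hx)
        (iA.inv_mul hb hx hbA h1) (B.mul_mem (B.inv_mem hbB) h2))).symm))
    · have hab := E.mul_mem ha hb
      exact .inr (.inr (.inr (inv_mul_eq_one.1 (hD _ (E.mul_mem (E.inv_mem hab) hx)
        (iA.inv_mul hab hx (fun e => hbA ((A.mul_mem_cancel_left haA).1 e)) h1)
        (iB.inv_mul hab hx (fun e => haB ((B.mul_mem_cancel_right hbB).1 e)) h2))).symm))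
  obtain ⟨s, hs, c1, c2, n1, n2, n3, n4⟩ := h a (hE ha) b (hE hb) (sq a ha) (sq b hb) (cm a ha b hb)
    ha1 hb1 fun e => haB (e ▸ hbB)
  have : s ∈ E := hc ⟨hs, fun x hx => by
    rcases cases x hx with rfl | rfl | rfl | rfl
    exacts [(Commute.one_left s).eq, c1.symm.eq, c2.symm.eq, (c1.mul_right c2).symm.eq]⟩
  rcases cases s this with e | e | e | e
  exacts [n1 e, n2 e, n3 e, n4 e]

/-- An element permuting three disjoint classes cyclically has order divisible by three. -/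
theorem tri_pred {w : G} (A1 A2 A3 : G → Prop) (h1 : ∀ x, A1 x → A2 (w * x * w⁻¹))
    (h2 : ∀ x, A2 x → A3 (w * x * w⁻¹)) (h3 : ∀ x, A3 x → A1 (w * x * w⁻¹)) {x : G} (hx : A1 x)
    (d2 : ¬ A2 x) (d3 : ¬ A3 x) : 3 ∣ orderOf w := by
  have key : ∀ n : ℕ, (n % 3 = 0 → A1 (w ^ n * x * (w ^ n)⁻¹)) ∧
      (n % 3 = 1 → A2 (w ^ n * x * (w ^ n)⁻¹)) ∧ (n % 3 = 2 → A3 (w ^ n * x * (w ^ n)⁻¹)) := by
    intro n
    induction n with
    | zero => simpa using hx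
    | succ n ih =>
      rw [show w ^ (n + 1) * x * (w ^ (n + 1))⁻¹ = w * (w ^ n * x * (w ^ n)⁻¹) * w⁻¹ by group]
      exact ⟨fun h => h3 _ (ih.2.2 (by omega)), fun h => h1 _ (ih.1 (by omega)),
        fun h => h2 _ (ih.2.1 (by omega))⟩
  have := key (orderOf w)
  rw [pow_orderOf_eq_one, one_mul, inv_one, mul_one] at this
  by_contra h
  rcases (by omega : orderOf w % 3 = 1 ∨ orderOf w % 3 = 2) with e | e
  exacts [d2 (this.2.1 e), d3 (this.2.2 e)]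

theorem tri_side [Finite G] {E P Q : Subgroup G} (iP : Ix2 P E) (iQ : Ix2 Q E) {a : G}
    (aE : a ∈ normalizer (E : Set G)) (aP : a ∈ normalizer ((E ⊓ P : Subgroup G) : Set G))
    (aD : a ∈ normalizer ((E ⊓ P ⊓ Q : Subgroup G) : Set G))
    (aQ : a ∉ normalizer ((E ⊓ Q : Subgroup G) : Set G)) :
    (∃ x ∈ E, x ∉ P ∧ x ∈ Q) ∧
    (∀ x, x ∈ E ∧ x ∈ P ∧ x ∉ Q → a * x * a⁻¹ ∈ E ∧ a * x * a⁻¹ ∈ P ∧ a * x * a⁻¹ ∉ Q) ∧
    (∀ x, x ∈ E ∧ x ∉ P ∧ x ∈ Q → a * x * a⁻¹ ∈ E ∧ a * x * a⁻¹ ∉ P ∧ a * x * a⁻¹ ∉ Q) ∧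
    (∀ x, x ∈ E ∧ x ∉ P ∧ x ∉ Q → a * x * a⁻¹ ∈ E ∧ a * x * a⁻¹ ∉ P ∧ a * x * a⁻¹ ∈ Q) := by
  have cE := fun x (hx : x ∈ E) => mem_normalizer_conj aE hx
  have nP : ∀ x ∈ E, x ∉ P → a * x * a⁻¹ ∉ P := fun x hx h e =>
    h ((mem_normalizer_iff.1 aP x).2 ⟨cE x hx, e⟩).2
  have ex : ∃ x ∈ E, x ∉ P ∧ x ∈ Q := by
    by_contra h
    push Not at h
    refine aQ (mem_normalizer_of_cj_le (cj_le_iff.2 fun t ht => ?_))
    have := mem_normalizer_conj aD (x := t) ⟨⟨ht.1, by_contra fun e => h t ht.1 e ht.2⟩, ht.2⟩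
    exact ⟨this.1.1, this.2⟩
  have m2 : ∀ x, x ∈ E ∧ x ∉ P ∧ x ∈ Q → a * x * a⁻¹ ∈ E ∧ a * x * a⁻¹ ∉ P ∧ a * x * a⁻¹ ∉ Q :=
    fun x hx => ⟨cE x hx.1, nP x hx.1 hx.2.1, fun e => by
      refine aQ (mem_normalizer_of_cj_le (cj_le_iff.2 fun t ht => ⟨cE t ht.1, ?_⟩))
      by_cases h : t ∈ P
      · exact (mem_normalizer_conj aD (x := t) ⟨⟨ht.1, h⟩, ht.2⟩).2
      · have := (mem_normalizer_conj aD (x := x⁻¹ * t) ⟨⟨E.mul_mem (E.inv_mem hx.1) ht.1,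
          iP.inv_mul hx.1 ht.1 hx.2.1 h⟩, Q.mul_mem (Q.inv_mem hx.2.2) ht.2⟩).2
        have h2 := Q.mul_mem e this
        rwa [show a * x * a⁻¹ * (a * (x⁻¹ * t) * a⁻¹) = a * t * a⁻¹ by group] at h2⟩
  refine ⟨ex, fun x hx => ?_, m2, fun x hx => ⟨cE x hx.1, nP x hx.1 hx.2.1, ?_⟩⟩
  · have := mem_normalizer_conj aP (x := x) ⟨hx.1, hx.2.1⟩
    exact ⟨this.1, this.2, fun e => hx.2.2 ((mem_normalizer_iff.1 aD x).2 ⟨this, e⟩).2⟩
  · by_contra e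
    obtain ⟨z, hz, hzP, hzQ⟩ := ex
    obtain ⟨h1, h2, h3⟩ := m2 z ⟨hz, hzP, hzQ⟩
    have h4 : a * (x * z) * a⁻¹ = a * x * a⁻¹ * (a * z * a⁻¹) := by group
    have := ((mem_normalizer_iff.1 aD (x * z)).2 (by
      rw [h4]
      exact ⟨⟨E.mul_mem (cE x hx.1) h1, iP _ (cE x hx.1) _ h1 (nP x hx.1 hx.2.1) h2⟩,
        iQ _ (cE x hx.1) _ h1 e h3⟩)).2
    exact hx.2.2 ((Q.mul_mem_cancel_right hzQ).1 this)

theorem tri [Finite G] {E P Q : Subgroup G} (iP : Ix2 P E) (iQ : Ix2 Q E) {a b : G}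
    (aE : a ∈ normalizer (E : Set G)) (aP : a ∈ normalizer ((E ⊓ P : Subgroup G) : Set G))
    (aD : a ∈ normalizer ((E ⊓ P ⊓ Q : Subgroup G) : Set G))
    (aQ : a ∉ normalizer ((E ⊓ Q : Subgroup G) : Set G))
    (bE : b ∈ normalizer (E : Set G)) (bQ : b ∈ normalizer ((E ⊓ Q : Subgroup G) : Set G))
    (bD : b ∈ normalizer ((E ⊓ Q ⊓ P : Subgroup G) : Set G))
    (bP : b ∉ normalizer ((E ⊓ P : Subgroup G) : Set G)) : 3 ∣ orderOf (a * b) := by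
  obtain ⟨-, a1, a2, a3⟩ := tri_side iP iQ aE aP aD aQ
  obtain ⟨⟨x, hx, hxQ, hxP⟩, b1, b2, b3⟩ := tri_side iQ iP bE bQ bD bP
  have e : ∀ x, a * b * x * (a * b)⁻¹ = a * (b * x * b⁻¹) * a⁻¹ := fun x => by group
  refine tri_pred (fun x => x ∈ E ∧ x ∈ P ∧ x ∉ Q) (fun x => x ∈ E ∧ x ∉ P ∧ x ∈ Q)
    (fun x => x ∈ E ∧ x ∉ P ∧ x ∉ Q) (fun x h => ?_) (fun x h => ?_) (fun x h => ?_) ⟨hx, hxP, hxQ⟩
    (fun h => h.2.1 hxP) fun h => h.2.1 hxP
  · obtain ⟨h1, h2, h3⟩ := b2 x ⟨h.1, h.2.2, h.2.1⟩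
    rw [e]; exact a3 _ ⟨h1, h3, h2⟩
  · obtain ⟨h1, h2, h3⟩ := b1 x ⟨h.1, h.2.2, h.2.1⟩
    rw [e]; exact a2 _ ⟨h1, h3, h2⟩
  · obtain ⟨h1, h2, h3⟩ := b3 x ⟨h.1, h.2.2, h.2.1⟩
    rw [e]; exact a1 _ ⟨h1, h3, h2⟩

namespace N6
variable [Finite G] {P : Subgroup G} {y : G}

omit [Finite G] in
theorem fpf3 (h6 : N6 G) (hP : IsPGroup 2 P) (hy : y ∈ normalizer (P : Set G)) (y3 : y ^ 3 = 1)
    (y1 : y ≠ 1) : Fpf3 (P.normalizerMonoidHom ⟨y, hy⟩) :=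
  ⟨hP, fun x => by
    rw [← MulAut.mul_apply, ← MulAut.mul_apply, ← map_mul, ← map_mul, ← pow_three',
      show (⟨y, hy⟩ : normalizer (P : Set G)) ^ 3 = 1 from Subtype.ext y3, map_one,
      MulAut.one_apply],
    fun x hx => Subtype.ext (h6.eq_one_of_mem hP x.2 y3 y1
      (mul_inv_eq_iff_eq_mul.1 (congrArg Subtype.val hx : y * x * y⁻¹ = x)).symm)⟩

theorem norm (h6 : N6 G) (hP : IsPGroup 2 P) (hy : y ∈ normalizer (P : Set G)) (y3 : y ^ 3 = 1)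
    (y1 : y ≠ 1) {x : G} (hx : x ∈ P) : x * (y * x * y⁻¹) * (y * (y * x * y⁻¹) * y⁻¹) = 1 :=
  congrArg Subtype.val ((h6.fpf3 hP hy y3 y1).norm ⟨x, hx⟩)

theorem comm_conj (h6 : N6 G) (hP : IsPGroup 2 P) (hy : y ∈ normalizer (P : Set G))
    (y3 : y ^ 3 = 1) (y1 : y ≠ 1) {x w : G} (hx : x ∈ P) (hw : w ∈ P) (hc : Commute x w) :
    Commute x (y * w * y⁻¹) :=
  congrArg Subtype.val ((h6.fpf3 hP hy y3 y1).commute_right (x := ⟨x, hx⟩) (y := ⟨w, hw⟩)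
    (Subtype.ext hc.eq)).eq

theorem cls (h6 : N6 G) (hP : IsPGroup 2 P) (hy : y ∈ normalizer (P : Set G))
    (y3 : y ^ 3 = 1) (y1 : y ≠ 1) {x w z : G} (hx : x ∈ P) (hw : w ∈ P) (hz : z ∈ P) :
    Commute ⁅x, w⁆ z :=
  (congrArg Subtype.val (mem_center_iff.1 ((h6.fpf3 hP hy y3 y1).cls ⟨x, hx⟩ ⟨w, hw⟩) ⟨z, hz⟩)).symm

theorem le_of_ix2 (h6 : N6 G) (hP : IsPGroup 2 P) (hy : y ∈ normalizer (P : Set G))
    (y3 : y ^ 3 = 1) (y1 : y ≠ 1) {A : Subgroup G} (hA : Ix2 A P)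
    (hinv : ∀ x ∈ P, x ∈ A → y * x * y⁻¹ ∈ A) : P ≤ A := fun x hx => by
  by_contra h
  have c := fun x (hx : x ∈ P) => mem_normalizer_conj hy hx
  have back : ∀ x ∈ P, x ∉ A → y * x * y⁻¹ ∉ A := fun x hx h e => h (by
    have := hinv _ (c _ (c _ hx)) (hinv _ (c _ hx) e)
    rwa [show y * (y * (y * x * y⁻¹) * y⁻¹) * y⁻¹ = y ^ 3 * x * (y ^ 3)⁻¹ by
      rw [pow_three]; group, y3, one_mul, inv_one, mul_one] at this)
  have h1 := hA x hx _ (c x hx) h (back x hx h)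
  refine back _ (c x hx) (back x hx h) ((A.mul_mem_cancel_left h1).1 ?_)
  rw [h6.norm hP hy y3 y1 hx]
  exact A.one_mem

theorem central_of_ix2 (h6 : N6 G) (hP : IsPGroup 2 P) (hy : y ∈ normalizer (P : Set G))
    (y3 : y ^ 3 = 1) (y1 : y ≠ 1) {z : G} (hz : z ∈ P) (hA : Ix2 (centralizer {z}) P) :
    ∀ x ∈ P, Commute z x := fun _ hx =>
  (mem_centralizer_singleton_iff.1 (h6.le_of_ix2 hP hy y3 y1 hA (fun _ hx h =>
    mem_centralizer_singleton_iff.2 (h6.comm_conj hP hy y3 y1 hz hx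
      (mem_centralizer_singleton_iff.1 h).symm).eq.symm) hx)).symm

omit [Finite G] in
theorem eq_one_of_invert (h6 : N6 G) (hP : IsPGroup 2 P) (y3 : y ^ 3 = 1) (y1 : y ≠ 1) {t x : G}
    (ht : t * y * t⁻¹ = y⁻¹) (hx : x ∈ P) (c1 : Commute x t) (c2 : Commute x (y * t * y⁻¹)) :
    x = 1 := by
  refine h6.eq_one_of_mem hP hx y3 y1 ?_
  have := c1.mul_right c2.inv_right
  rwa [show t * (y * t * y⁻¹)⁻¹ = t * y * t⁻¹ * y⁻¹ by group, ht, ← mul_inv_rev,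
    show y * y = y⁻¹ by rw [eq_inv_iff_mul_eq_one, ← pow_three', y3], inv_inv] at this

omit [Finite G] in
theorem ix2_conj (hy : y ∈ normalizer (P : Set G)) {t : G} (h : Ix2 (centralizer {t}) P) :
    Ix2 (centralizer {y * t * y⁻¹}) P := by
  have := h.cj y
  rwa [cj_eq_of_mem_normalizer hy, cj_centralizer_set, Set.image_singleton] at this

omit [Finite G] in
theorem sq_of_invert (h6 : N6 G) (hP : IsPGroup 2 P) (hy : y ∈ normalizer (P : Set G))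
    (y3 : y ^ 3 = 1) (y1 : y ≠ 1) {t : G} (ht : t * y * t⁻¹ = y⁻¹) (h : Ix2 (centralizer {t}) P)
    {x : G} (hx : x ∈ P) : x * x = 1 :=
  h6.eq_one_of_invert hP y3 y1 ht (P.mul_mem hx hx) (mem_centralizer_singleton_iff.1 (h.sq hx))
    (mem_centralizer_singleton_iff.1 ((ix2_conj hy h).sq hx))

omit [Finite G] in
theorem small_of_invert (h6 : N6 G) (hP : IsPGroup 2 P) (hy : y ∈ normalizer (P : Set G))
    (y3 : y ^ 3 = 1) (y1 : y ≠ 1) {t : G} (ht : t * y * t⁻¹ = y⁻¹) (h : Ix2 (centralizer {t}) P)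
    {x w : G} (hx : x ∈ P) (hw : w ∈ P) (cx : Commute x t) (cw : Commute w t) (x1 : x ≠ 1)
    (w1 : w ≠ 1) : x * w = 1 :=
  h6.eq_one_of_invert hP y3 y1 ht (P.mul_mem hx hw) (cx.mul_left cw)
    (mem_centralizer_singleton_iff.1 (ix2_conj hy h x hx w hw
      (fun e => x1 (h6.eq_one_of_invert hP y3 y1 ht hx cx (mem_centralizer_singleton_iff.1 e)))
      fun e => w1 (h6.eq_one_of_invert hP y3 y1 ht hw cw (mem_centralizer_singleton_iff.1 e))))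

end N6

/-- A configuration in which the fusion of `Q` in `S` is not controlled. -/
structure Cfg (S Q E : Subgroup G) (n : G) : Prop where
  le : E ≤ S
  rad : RadicalIn 2 S ⊤ E
  nN : n ∈ normalizer (E : Set G)
  nn : n ∉ normalizer ((E ⊓ Q : Subgroup G) : Set G)
  se : ∀ m ∈ normalizer (E : Set G), ∀ p ∈ S, p ∈ normalizer (E : Set G) → p ∉ E →
    m * p * m⁻¹ ∈ normalizer ((E ⊓ Q : Subgroup G) : Set G) →
      m ∈ normalizer ((E ⊓ Q : Subgroup G) : Set G)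

theorem mem_normalizer_inf {A B : Subgroup G} {g : G} (ha : g ∈ normalizer (A : Set G))
    (hb : g ∈ normalizer (B : Set G)) : g ∈ normalizer ((A ⊓ B : Subgroup G) : Set G) := by
  rw [← cj_eq_self_iff] at *
  rw [cj_inf, ha, hb]

theorem sclosed_or_cfg [Finite G] {S Q : Subgroup G} (hS : IsSylowIn 2 S ⊤) (hQS : Q ≤ S)
    (hQ : S ≤ normalizer (Q : Set G)) : SClosedIn Q (S : Subgroup G) ⊤ ∨ ∃ E n, Cfg S Q E n := by
  by_contra h
  push Not at h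
  refine h.1 fun v hv g _ hg => ?_
  have hvS := hQS hv
  refine alperin_radical hS (fun A g => ∀ a ∈ A, a ∈ Q → g * a * g⁻¹ ∈ Q)
    (fun A B g hAB hB a ha => hB a (hAB ha)) (fun A g k hA hB a ha haQ => ?_)
    (fun A c _ hc a ha haQ => ?_) (fun E hE hfn hr ih n hn => ?_) (zpowers v) (zpowers_le.2 hvS) g
    (mem_top g) (by rwa [cj_zpowers, zpowers_le]) v (mem_zpowers v) hv
  · have := hB _ (conj_mem_cj.2 ha) (hA a ha haQ)
    rwa [show k * (g * a * g⁻¹) * k⁻¹ = k * g * a * (k * g)⁻¹ by group] at this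
  · rwa [conj_eq_of_mem_centralizer hc ha]
  · by_cases hn' : n ∈ normalizer ((E ⊓ Q : Subgroup G) : Set G)
    · exact fun a ha haQ => (mem_normalizer_conj hn' (x := a) ⟨ha, haQ⟩).2
    refine (h.2 E n ⟨hE, hr, hn.2, hn', fun m hm p hp hpN hpE hmp => ?_⟩).elim
    have h1 : S ⊓ normalizer (E : Set G) ≤
        normalizer (E : Set G) ⊓ normalizer ((E ⊓ Q : Subgroup G) : Set G) :=
      fun x hx => ⟨hx.2, mem_normalizer_inf hx.2 (hQ hx.1)⟩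
    have h2 := hfn.mono h1 (le_inf le_top inf_le_left)
    have hW : E ⊔ zpowers p ≤ S := sup_le hE (zpowers_le.2 hp)
    obtain ⟨x, hx, h3⟩ := h2.exists_cj_le (isPGroup_cj (hS.isPGroup.to_le hW) m) (by
      rw [cj_sup, cj_eq_of_mem_normalizer hm, cj_zpowers]
      exact sup_le ((le_inf hE le_normalizer).trans h1) (zpowers_le.2
        ⟨(normalizer (E : Set G)).mul_mem (mul_mem hm hpN) (inv_mem hm), hmp⟩))
    rw [cj_cj] at h3
    have h4 := ih _ hW (card_lt_of_lt (left_lt_sup.2 fun e => hpE (zpowers_le.1 e))) (x * m)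
      (mem_top _) (h3.trans inf_le_left)
    refine (Subgroup.mul_mem_cancel_left _ hx.2).1 (mem_normalizer_of_cj_le (cj_le_iff.2 fun t ht =>
      ⟨mem_normalizer_conj (mul_mem hx.1 hm) ht.1, h4 t (mem_sup_left ht.1) ht.2⟩))

theorem false_of_sclosed [Finite G] (hG : pResidual 2 G = ⊤) (S : Sylow 2 G) {Q : Subgroup G}
    (hQ : SClosedIn Q S ⊤) (ix : Ix2 Q S) : (S : Subgroup G) ≤ Q := by
  have := pResidual_inf_le_of_fusion S (M := Q) fun x hx g hg => by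
    by_cases h : x ∈ Q
    · exact Q.mul_mem (Q.inv_mem h) (hQ x h g (mem_top g) hg)
    · refine ix.inv_mul hx hg h fun e => h ?_
      have := hQ _ e g⁻¹ (mem_top _) (by simpa [mul_assoc] using hx)
      simpa [mul_assoc] using this
  rwa [hG, top_inf_eq] at this

theorem Cfg.inv {S Q E : Subgroup G} {n : G} (h : Cfg S Q E n) : Cfg S Q E n⁻¹ :=
  ⟨h.le, h.rad, inv_mem h.nN, fun e => h.nn (inv_mem_iff.1 e), h.se⟩

theorem Cfg.not_le {S Q E : Subgroup G} {n : G} (h : Cfg S Q E n) : ¬ E ≤ Q := fun e =>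
  h.nn (by rw [inf_of_le_left e]; exact h.nN)

/-- One of the two sides of a configuration with `Q` of index two in `S`. -/
structure Side (E S Q Q' : Subgroup G) : Prop where
  pg : IsPGroup 2 S
  le : E ≤ S
  leQ : Q ≤ S
  ix : Ix2 Q S
  cent : S ⊓ centralizer (E : Set G) ≤ E
  nf : NoFour S
  nle : ¬ E ≤ Q
  ex : ∃ p ∈ Q, p ∈ normalizer (E : Set G) ∧ p ∉ E
  se : ∀ p ∈ S, p ∈ normalizer (E : Set G) → p ∉ E →
    p ∉ normalizer ((E ⊓ Q' : Subgroup G) : Set G)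

theorem Ix2.le_normalizer [Finite G] {Q S : Subgroup G} (h : Ix2 Q S) (hQ : Q ≤ S) :
    S ≤ normalizer (Q : Set G) := fun s hs => by
  by_cases h1 : s ∈ Q
  · exact Subgroup.le_normalizer h1
  · refine mem_normalizer_of_cj_le (cj_le_iff.2 fun t ht => ?_)
    exact h _ (S.mul_mem hs (hQ ht)) _ (S.inv_mem hs)
      (fun e => h1 ((Q.mul_mem_cancel_right ht).1 e)) fun e => h1 (Q.inv_mem_iff.1 e)

theorem NoFour.cj {S : Subgroup G} (h : NoFour S) (g : G) : NoFour (cj g S) := by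
  rintro _ ⟨a, ha, rfl⟩ _ ⟨b, hb, rfl⟩ h1 h2 h3 h4 h5 h6
  let f := (MulAut.conj g).toMonoidHom
  have hf : Function.Injective f := (MulAut.conj g).injective
  obtain ⟨s, hs, c1, c2, n1, n2, n3, n4⟩ := h a ha b hb (hf (by rw [map_mul, map_one]; exact h1))
    (hf (by rw [map_mul, map_one]; exact h2)) (hf (by rw [map_mul, map_mul]; exact h3))
    (fun e => h4 (by rw [e, map_one])) (fun e => h5 (by rw [e, map_one])) fun e => h6 (by rw [e])
  exact ⟨f s, mem_map_of_mem _ hs, c1.map f, c2.map f, fun e => n1 (hf (e.trans f.map_one.symm)),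
    fun e => n2 (hf e), fun e => n3 (hf e), fun e => n4 (hf (e.trans (f.map_mul a b).symm))⟩

theorem Side.cj {E S Q Q' : Subgroup G} (h : Side E S Q Q') (g : G) :
    Side (cj g E) (cj g S) (cj g Q) (cj g Q') where
  pg := isPGroup_cj h.pg g
  le := cj_mono g h.le
  leQ := cj_mono g h.leQ
  ix := h.ix.cj g
  cent := by rw [← cj_centralizer, ← cj_inf]; exact cj_mono g h.cent
  nf := h.nf.cj g
  nle := fun e => h.nle (cj_le_cj.1 e)
  ex := by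
    obtain ⟨p, h1, h2, h3⟩ := h.ex
    exact ⟨g * p * g⁻¹, conj_mem_cj.2 h1, by rw [← cj_normalizer]; exact conj_mem_cj.2 h2,
      fun e => h3 (conj_mem_cj.1 e)⟩
  se := fun p h1 h2 h3 => by
    rw [← cj_inf, ← cj_normalizer]
    rw [← cj_normalizer] at h2
    rw [mem_cj] at *
    exact h.se _ h1 h2 h3

theorem Cfg.side [Finite G] {S Q E : Subgroup G} {n : G} (h : Cfg S Q E n) (pg : IsPGroup 2 S)
    (leQ : Q ≤ S) (ix : Ix2 Q S) (nf : NoFour S)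
    (hN : normalizer (S : Set G) ≤ normalizer (Q : Set G)) : Side E S Q (cj n Q) where
  pg := pg
  le := h.le
  leQ := leQ
  ix := ix
  cent := h.rad.inf_centralizer_le le_top
  nf := nf
  nle := h.not_le
  ex := by
    have h1 : E < S := lt_of_le_of_ne h.le fun e =>
      h.nn (mem_normalizer_inf h.nN (hN (e ▸ h.nN)))
    obtain ⟨p, hp, hpE⟩ := SetLike.exists_of_lt (lt_inf_normalizer pg h1)
    by_cases hpQ : p ∈ Q
    · exact ⟨p, hpQ, hp.2, hpE⟩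
    · obtain ⟨e, he, heQ⟩ := SetLike.not_le_iff_exists.1 h.not_le
      exact ⟨p * e, ix p hp.1 e (h.le he) hpQ heQ, mul_mem hp.2 (le_normalizer he),
        fun h2 => hpE ((E.mul_mem_cancel_right he).1 h2)⟩
  se := fun p h1 h2 h3 h4 => by
    rw [← cj_eq_of_mem_normalizer h.nN, ← cj_inf, ← cj_normalizer, mem_cj] at h4
    exact h.inv.nn (h.se n⁻¹ (inv_mem h.nN) p h1 h2 h3 (by rwa [inv_inv]))

theorem Cfg.side' [Finite G] {S Q E : Subgroup G} {n : G} (h : Cfg S Q E n) (pg : IsPGroup 2 S)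
    (leQ : Q ≤ S) (ix : Ix2 Q S) (nf : NoFour S)
    (hN : normalizer (S : Set G) ≤ normalizer (Q : Set G)) : Side E (cj n S) (cj n Q) Q := by
  have := (h.inv.side pg leQ ix nf hN).cj n
  rwa [cj_cj_inv, cj_eq_of_mem_normalizer h.nN] at this

namespace Side
variable [Finite G] {E S S' Q Q' : Subgroup G}

omit [Finite G] in
theorem ixE (h : Side E S Q Q') : Ix2 Q E := h.ix.mono h.le fun _ _ e => e

theorem tri (h : Side E S Q Q') (h' : Side E S' Q' Q) {a b : G} (aS : a ∈ S)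
    (aN : a ∈ normalizer (E : Set G)) (aE : a ∉ E)
    (aD : a ∈ normalizer ((E ⊓ Q ⊓ Q' : Subgroup G) : Set G)) (bS : b ∈ S')
    (bN : b ∈ normalizer (E : Set G)) (bE : b ∉ E)
    (bD : b ∈ normalizer ((E ⊓ Q' ⊓ Q : Subgroup G) : Set G)) : 3 ∣ orderOf (a * b) :=
  NoSix.tri h.ixE h'.ixE aN (mem_normalizer_inf aN (h.ix.le_normalizer h.leQ aS)) aD
    (h.se a aS aN aE) bN (mem_normalizer_inf bN (h'.ix.le_normalizer h'.leQ bS)) bD
    (h'.se b bS bN bE)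

/-- The elements outside `E` cannot centralise `E ⊓ Q ⊓ Q'` on both sides. -/
theorem tri_cent (h6 : N6 G) (h : Side E S Q Q') (h' : Side E S' Q' Q) {a b : G} (aS : a ∈ S)
    (aN : a ∈ normalizer (E : Set G)) (aE : a ∉ E)
    (aD : ∀ x ∈ E, x ∈ Q → x ∈ Q' → Commute x a) (bS : b ∈ S')
    (bN : b ∈ normalizer (E : Set G)) (bE : b ∉ E)
    (bD : ∀ x ∈ E, x ∈ Q → x ∈ Q' → Commute x b) : False := by
  have aD' : a ∈ normalizer ((E ⊓ Q ⊓ Q' : Subgroup G) : Set G) :=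
    centralizer_le_normalizer _ fun x hx => aD x hx.1.1 hx.1.2 hx.2
  have bD' : b ∈ normalizer ((E ⊓ Q' ⊓ Q : Subgroup G) : Set G) :=
    centralizer_le_normalizer _ fun x hx => bD x hx.1.1 hx.2 hx.1.2
  obtain ⟨m, h1, h3⟩ := exists_pow_three (h.tri h' aS aN aE aD' bS bN bE bD')
  obtain ⟨x, hx, hxQ, hxQ'⟩ := (tri_side h.ixE h'.ixE aN
    (mem_normalizer_inf aN (h.ix.le_normalizer h.leQ aS)) aD' (h.se a aS aN aE)).1
  obtain ⟨z, hz, hzQ', hzQ⟩ := (tri_side h'.ixE h.ixE bN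
    (mem_normalizer_inf bN (h'.ix.le_normalizer h'.leQ bS)) bD' (h'.se b bS bN bE)).1
  exact h.nf.false h.le h.cent h.ixE h'.ixE (fun x hx h4 h5 => h6.eq_one_of_mem h.pg (h.le hx) h3 h1
    (((aD x hx h4 h5).mul_right (bD x hx h4 h5)).pow_right m)) hz hzQ
    (fun e => hzQ' (e ▸ Q'.one_mem)) hx hxQ' fun e => hxQ (e ▸ Q.one_mem)

theorem exists_cent (h : Side E S Q Q') (hZ : ¬ Q ⊓ centralizer (Q : Set G) ≤ E) :
    ∃ a ∈ S, a ∈ normalizer (E : Set G) ∧ a ∉ E ∧ ∀ x ∈ E, x ∈ Q → Commute x a := by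
  have hn : S ≤ normalizer ((Q ⊓ centralizer (Q : Set G) : Subgroup G) : Set G) := fun s hs =>
    mem_normalizer_inf (h.ix.le_normalizer h.leQ hs)
      (normalizer_le_normalizer_centralizer Q (h.ix.le_normalizer h.leQ hs))
  have hc : Q ⊓ centralizer (Q : Set G) ≤ centralizer (Q : Set G) := inf_le_right
  have hl : Q ⊓ centralizer (Q : Set G) ≤ S := inf_le_left.trans h.leQ
  generalize Q ⊓ centralizer (Q : Set G) = Z at *
  obtain ⟨p, hp, hpE⟩ := SetLike.exists_of_lt (lt_inf_normalizer (h.pg.to_le (sup_le h.le hl))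
    (left_lt_sup.2 hZ))
  have : p ∈ ((E ⊔ Z : Subgroup G) : Set G) := hp.1
  rw [coe_mul_of_left_le_normalizer_right E Z (h.le.trans hn)] at this
  obtain ⟨e, he, z, hz, rfl⟩ := this
  exact ⟨z, hl hz, (mul_mem_cancel_left (le_normalizer he)).1 hp.2, fun e' => hpE (E.mul_mem he e'),
    fun x _ hx => hc hz x hx⟩

/-- An element of order three cannot normalise `E`. -/
theorem no_three (h6 : N6 G) (h : Side E S Q Q') {u v : G} (hu : u ∈ E) (hv : v ∈ E)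
    (hvQ : ∀ q ∈ Q, Commute v q) (huv : ¬ Commute u v) {w : G} (hw : w ∈ normalizer (E : Set G)) :
    ¬ 3 ∣ orderOf w := fun h3 => by
  obtain ⟨m, h1, h3⟩ := exists_pow_three h3
  exact huv (h6.central_of_ix2 (h.pg.to_le h.le) (pow_mem hw m) h3 h1 hv
    (h.ixE.mono le_rfl fun x _ hx => mem_centralizer_singleton_iff.2 (hvQ x hx).eq.symm) u hu).symm

end Side

theorem Cfg.center_le [Finite G] (h6 : N6 G) {S Q E : Subgroup G} {n : G}
    (hn : n ∈ normalizer (E : Set G)) (h : Side E S Q (cj n Q)) (h' : Side E (cj n S) (cj n Q) Q) :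
    Q ⊓ centralizer (Q : Set G) ≤ E := by
  by_contra hZ
  obtain ⟨a, h1, h2, h3, h4⟩ := h.exists_cent hZ
  obtain ⟨b, k1, k2, k3, k4⟩ := h'.exists_cent (by
    rwa [← cj_centralizer, ← cj_inf, ← cj_eq_of_mem_normalizer hn, cj_le_cj])
  exact h.tri_cent h6 h' h1 h2 h3 (fun x hx e _ => h4 x hx e) k1 k2 k3 fun x hx _ e => k4 x hx e

end Cfsg.Lib.NoSix
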